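import Groth.Agent.Posit43.NefAmple
import Groth.Agent.VarNef31.SectionsMono
import Groth.Agent.AmpleX.Generated
import Groth.Agent.AmpleX.Pow

/-!
# Bigness

Kodaira's lemma, growth of the sections of ample modules, positivity of `L^n` for big nef modules and
bigness of nef modules with `L^n > 0`.
-/

set_option linter.style.haveILetI false
set_option linter.unusedSectionVars false
set_option backward.isDefEq.respectTransparency false
set_option backward.isDefEq.respectTransparency.types false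

universe u

open CategoryTheory CategoryTheory.Limits AlgebraicGeometry TopologicalSpace Opposite
open scoped Groth.Agent.H23.PicMul

attribute [local instance] HasDerivedCategory.standard

noncomputable section

namespace Groth.Agent.Posit43

open Groth.Agent HilbPoly VarGrow31

variable (k : Type u) [Field k] {X : Scheme.{u}} [X.Over (Spec (CommRingCat.of k))]
  [IsProper (X ↘ Spec (CommRingCat.of k))]

theorem finrank_HH_congr {M N : X.Modules} (h : PicF.cl M = PicF.cl N) (i : ℕ) :
    Module.finrank k (Coh.HH X M i) = Module.finrank k (Coh.HH X N i) :=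
  (CurveCohLib.hhEquiv (k := k) (H23.PicMul.cl_eq_iff.1 h).some i).finrank_eq

omit [X.Over (Spec (CommRingCat.of k))] [IsProper (X ↘ Spec (CommRingCat.of k))] in
theorem isInvertible_of_isInverseOf {L E : X.Modules} (hL : PicF.IsInvertible L)
    (h : ClSub.IsInverseOf E L) : PicF.IsInvertible E := by
  obtain ⟨D, hD, ⟨e⟩⟩ := H23.PicInv.exists_inverse hL
  refine H23.PicMul.isInvertible_of_iso (H23.PicMul.cl_eq_iff.1 ?_).some hD
  have h1 : PicF.cl E * PicF.cl L = 1 := by
    rw [← H23.PicMul.cl_tensor, H23.PicMul.one_def]; exact H23.PicMul.cl_eq_iff.2 h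
  have h2 : PicF.cl L * PicF.cl D = 1 := by
    rw [← H23.PicMul.cl_tensor, H23.PicMul.one_def]; exact H23.PicMul.cl_eq_iff.2 ⟨e⟩
  calc PicF.cl D = (PicF.cl E * PicF.cl L) * PicF.cl D := by rw [h1, one_mul]
    _ = PicF.cl E := by rw [mul_assoc, h2, mul_one]

include k in
theorem exists_inverse_pow {H : X.Modules} (hH : PicF.IsInvertible H) (b : ℕ) :
    ∃ E : X.Modules, PicF.IsInvertible E ∧ PicF.cl E * PicF.cl H ^ b = 1 := by
  obtain ⟨E, hE, ⟨e⟩⟩ := H23.PicInv.exists_inverse (InvX.isInvertible_tensorPow hH b)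
  refine ⟨E, hE, ?_⟩
  rw [mul_comm, ← H23.PicMul.cl_tensorPow, ← H23.PicMul.cl_tensor, H23.PicMul.one_def]
  exact H23.PicMul.cl_eq_iff.2 ⟨e⟩

/-- Sections of powers of an ample module grow like the power of the dimension. -/
theorem exists_growth_ample [IsIntegral X] {n : ℕ} (hn : topologicalKrullDim X = n) {A : X.Modules}
    (hA : CohB1.IsAmple A) :
    ∃ a N : ℕ, 0 < a ∧ ∀ m, N ≤ m →
      m ^ n ≤ a * Module.finrank k (Coh.HH X (CohB1.tensorPow A m) 0) := by
  haveI := CurveCohLib.isNoetherian_of_proper (k := k) (X := X)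
  have hO := QCoh.isCoh_structureModule' (X := X)
  have hOd : topologicalKrullDim ↥(CohB1.support (Coh.structureModule X)) = (n : WithBot ℕ∞) := by
    rw [VarAmp.support_structureModule, (Homeomorph.Set.univ X).isHomeomorph.topologicalKrullDim_eq, hn]
  obtain ⟨P, hP, hPd, hPa⟩ := exists_poly (additive_euler k) hA.1 hO hOd.le
  have hc : 0 < P.coeff n := by
    have h : (0 : ℚ) < StabCat.alpha n P := by
      rw [hPa]; exact Int.cast_pos.2 ((mult_nonneg_and_pos k hA n _ hO hOd.le).2 hOd)
    exact pos_of_mul_pos_right h (by positivity)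
  obtain ⟨a, ha⟩ := exists_nat_gt (1 / P.coeff n)
  have ha0 : (0 : ℚ) < a := lt_trans (by positivity) ha
  have hcoeff : ((a : ℚ) • P - Polynomial.monomial n 1).coeff n = a * P.coeff n - 1 := by
    rw [Polynomial.coeff_sub, Polynomial.coeff_smul, Polynomial.coeff_monomial, if_pos rfl, smul_eq_mul]
  obtain ⟨N, hN⟩ := eventually_pos (P := (a : ℚ) • P - Polynomial.monomial n 1) (d := n)
    ((Polynomial.natDegree_sub_le _ _).trans (max_le ((Polynomial.natDegree_smul_le _ _).trans hPd)
      (Polynomial.natDegree_monomial_le _)))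
    (by rw [hcoeff, sub_pos]; rwa [div_lt_iff₀ hc] at ha)
  obtain ⟨n₀, hn₀⟩ := (S0051.result k X (X ↘ Spec (CommRingCat.of k)) A hA.1).1 hA _ hO
  refine ⟨a, max N n₀, by exact_mod_cast ha0, fun m hm => ?_⟩
  have h1 := hN m ((le_max_left _ _).trans hm)
  rw [Polynomial.eval_sub, Polynomial.eval_smul, Polynomial.eval_monomial, ← hP m, smul_eq_mul, one_mul,
    sub_pos] at h1
  have h2 : Curv2.euler k X (pw A (Coh.structureModule X) m) =
      (Module.finrank k (Coh.HH X (CohB1.tensorPow A m) 0) : ℤ) := by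
    rw [Euler.euler_eq_sum k _ 1 (fun i hi => hn₀ m ((le_max_right _ _).trans hm) i (by omega)),
      Finset.sum_range_one, pow_zero, one_mul, Nat.cast_inj]
    exact (CurveCohLib.hhEquiv (k := k) (CurveTensor.structureTensorIso _) 0).finrank_eq
  rw [h2] at h1
  push_cast at h1
  have h3 : ((m ^ n : ℕ) : ℚ) ≤ ((a * Module.finrank k (Coh.HH X (CohB1.tensorPow A m) 0) : ℕ) : ℚ) := by
    push_cast; exact h1.le
  exact_mod_cast h3

omit [IsProper (X ↘ Spec (CommRingCat.of k))] in
theorem exists_mono_pow [IsIntegral X] {A B : X.Modules} (hA : PicF.IsInvertible A) (hB : PicF.IsInvertible B)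
    (f : A ⟶ B) [Mono f] : ∀ m, ∃ h : CohB1.tensorPow A m ⟶ CohB1.tensorPow B m, Mono h
  | 0 => ⟨𝟙 _, inferInstance⟩
  | m + 1 => by
    obtain ⟨h, hh⟩ := exists_mono_pow hA hB f m
    exact VarNef31.exists_mono_tensorMod (VarNef31.finLocFree_of_inv (InvX.isInvertible_tensorPow hB m))
      (VarNef31.finLocFree_of_inv hA) h f

/-- A monomorphism from an ample module gives growth. -/
theorem growth_of_mono [IsIntegral X] {n : ℕ} (hn : topologicalKrullDim X = n) {A L : X.Modules}
    (hA : CohB1.IsAmple A) (hL : PicF.IsInvertible L) {ν : ℕ} (hν : 0 < ν)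
    (φ : A ⟶ CohB1.tensorPow L ν) [Mono φ] :
    ∃ ν a : ℕ, 0 < ν ∧ 0 < a ∧ ∀ μ : ℕ, 1 ≤ μ →
      μ ^ n ≤ a * Module.finrank k (Coh.HH X (CohB1.tensorPow L (ν * μ)) 0) := by
  haveI := CurveCohLib.isNoetherian_of_proper (k := k) (X := X)
  obtain ⟨a, N, ha, hN⟩ := exists_growth_ample k hn hA
  refine ⟨ν * (N + 1), a, Nat.mul_pos hν N.succ_pos, ha, fun μ hμ => ?_⟩
  have h1 := hN ((N + 1) * μ) ((Nat.le_succ N).trans (Nat.le_mul_of_pos_right _ hμ))
  obtain ⟨f, hf⟩ := exists_mono_pow hA.1 (InvX.isInvertible_tensorPow hL ν) φ ((N + 1) * μ)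
  have h2 := VarNef31.finrank_h0_le_of_mono k
    (AmpleVan.isCoh_invertible (InvX.isInvertible_tensorPow (InvX.isInvertible_tensorPow hL ν) _)) f
  rw [finrank_HH_congr k (M := CohB1.tensorPow (CohB1.tensorPow L ν) ((N + 1) * μ))
    (N := CohB1.tensorPow L (ν * (N + 1) * μ)) (by
    rw [H23.PicMul.cl_tensorPow, H23.PicMul.cl_tensorPow, H23.PicMul.cl_tensorPow, ← pow_mul,
      mul_assoc]) 0] at h2
  calc μ ^ n ≤ ((N + 1) * μ) ^ n := Nat.pow_le_pow_left (Nat.le_mul_of_pos_left μ N.succ_pos) n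
    _ ≤ _ := h1
    _ ≤ _ := Nat.mul_le_mul_left a h2

/-- A section of `L^m ⊗ E`, with `E` inverse to `H`, gives a monomorphism from `H`. -/
theorem exists_mono_of_h0_pos [IsIntegral X] {H L E : X.Modules} (hH : PicF.IsInvertible H)
    (hL : PicF.IsInvertible L) (hE : PicF.IsInvertible E) (hEH : PicF.cl E * PicF.cl H = 1) {m : ℕ}
    (h : 0 < Module.finrank k (Coh.HH X (CohB1.tensorMod (CohB1.tensorPow L m) E) 0)) :
    ∃ φ : H ⟶ CohB1.tensorPow L m, Mono φ := by
  haveI : Nontrivial (Coh.HH X (CohB1.tensorMod (CohB1.tensorPow L m) E) 0) :=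
    Module.nontrivial_of_finrank_pos (R := k) h
  obtain ⟨x, hx⟩ := exists_ne (0 : Coh.HH X (CohB1.tensorMod (CohB1.tensorPow L m) E) 0)
  have hN := H23.PicMul.isInvertible_tensor (InvX.isInvertible_tensorPow hL m) hE
  let N := CohB1.tensorMod (CohB1.tensorPow L m) E
  let e : Coh.HH X N 0 ≃+ Γ(N, ⊤) := Sheaf.H.equiv₀ (Coh.toAb N) isTerminalTop
  obtain ⟨σ, hσ⟩ : ∃ σ : Γ(N, ⊤), σ ≠ 0 := ⟨e x, fun h => hx (e.map_eq_zero_iff.1 h)⟩
  haveI := mono_mulSec hN hσ (torFree_invertible hH)
  refine ⟨AmpleVan.mulSec σ H ≫ (H23.PicMul.cl_eq_iff.1 ?_).some.hom, mono_comp _ _⟩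
  show PicF.cl (CohB1.tensorMod H (CohB1.tensorMod (CohB1.tensorPow L m) E)) = _
  rw [H23.PicMul.cl_tensor, H23.PicMul.cl_tensor, mul_comm (PicF.cl (CohB1.tensorPow L m)),
    ← mul_assoc, mul_comm (PicF.cl H), hEH, one_mul]

/-- Kodaira's lemma. -/
theorem mono_of_growth [IsIntegral X] {n : ℕ} (hn : topologicalKrullDim X = n) {H L : X.Modules}
    (hH : CohB1.IsAmple H) (hL : PicF.IsInvertible L) {ν a : ℕ} (hν : 0 < ν)
    (hg : ∀ μ : ℕ, 1 ≤ μ → μ ^ n ≤ a * Module.finrank k (Coh.HH X (CohB1.tensorPow L (ν * μ)) 0)) :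
    ∃ (ν : ℕ) (A : X.Modules) (φ : A ⟶ CohB1.tensorPow L ν), 0 < ν ∧ CohB1.IsAmple A ∧ Mono φ := by
  haveI := CurveCohLib.isNoetherian_of_proper (k := k) (X := X)
  obtain ⟨b, s, -, hb, hs, -⟩ := exists_sections_at hH hH.1 (genericPoint X)
  have hHb := AmpleX.isAmple_tensorPow hH hb
  obtain ⟨E, hE, hEH'⟩ := exists_inverse_pow k hH.1 b
  have hEH : PicF.cl E * PicF.cl (CohB1.tensorPow H b) = 1 := by rw [H23.PicMul.cl_tensorPow]; exact hEH'
  haveI := mono_mulHom' s hs (torFree_invertible hE)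
  have hEc := AmpleVan.isCoh_invertible hE
  have hP : Coh.IsCoh (CohB1.tensorMod E (CohB1.tensorPow H b)) :=
    AmpleVan.isCoh_tensor hEc (AmpleVan.isCoh_invertible hHb.1)
  have hC := QCoh.isCoh_cokernel hEc.1 hP (mulHom s E)
  have hS : (ShortComplex.mk (mulHom s E) (cokernel.π _) (cokernel.condition _)).ShortExact :=
    .mk' (ShortComplex.exact_of_g_is_cokernel _ (cokernelIsCokernel _)) ‹_› inferInstance
  have hsmall := small_of_support k hL hC (dim_support_lt hn hC (notMem_support_cokernel' s hs)) 0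
  by_contra hcon
  have hzero : ∀ m, 0 < m → hd k L E 0 m = 0 := fun m hm => by
    by_contra hne
    have hpos : 0 < Module.finrank k (Coh.HH X (CohB1.tensorMod (CohB1.tensorPow L m) E) 0) := by
      rw [finrank_HH_congr k (N := ShStab.twist X L E m) (by
        rw [H23.PicMul.cl_tensor]; show _ = PicF.cl (CohB1.tensorMod E _)
        rw [H23.PicMul.cl_tensor, mul_comm]) 0]
      exact Nat.pos_of_ne_zero hne
    obtain ⟨φ, hφ⟩ := exists_mono_of_h0_pos k hHb.1 hL hE hEH hpos
    exact hcon ⟨m, _, φ, hm, hHb, hφ⟩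
  have hle : ∀ m, 0 < m → Module.finrank k (Coh.HH X (CohB1.tensorPow L m) 0) ≤
      hd k L (cokernel (mulHom s E)) 0 m := fun m hm => by
    have h1 := (twist_bounds k hL hS hEc hP hC 0 m).1
    have h2 : hd k L (CohB1.tensorMod E (CohB1.tensorPow H b)) 0 m =
        Module.finrank k (Coh.HH X (CohB1.tensorPow L m) 0) := finrank_HH_congr k (by
      show PicF.cl (CohB1.tensorMod (CohB1.tensorMod E (CohB1.tensorPow H b)) (CohB1.tensorPow L m)) = _
      rw [H23.PicMul.cl_tensor, H23.PicMul.cl_tensor, hEH, one_mul]) 0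
    change hd k L (CohB1.tensorMod E (CohB1.tensorPow H b)) 0 m ≤ hd k L E 0 m + _ at h1
    rw [h2, hzero m hm, Nat.zero_add] at h1
    exact h1
  rcases n with _ | n
  · have h1 := hg 1 le_rfl
    have h2 := hle (ν * 1) (by omega)
    rw [hsmall (ν * 1)] at h2
    simp only [pow_zero, Nat.le_zero.1 h2] at h1
    omega
  obtain ⟨C, hCb⟩ := hsmall
  obtain ⟨μ, hμ1, hμ⟩ : ∃ μ, 1 ≤ μ ∧ a * (C * (2 * ν) ^ n) < μ := ⟨a * (C * (2 * ν) ^ n) + 1, by omega, by omega⟩
  have h1 := (hg μ hμ1).trans (Nat.mul_le_mul_left a ((hle (ν * μ) (Nat.mul_pos hν hμ1)).trans (hCb _)))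
  have h2 : (ν * μ + 1) ^ n ≤ (2 * ν) ^ n * μ ^ n := by
    rw [← mul_pow]; exact Nat.pow_le_pow_left (by nlinarith) n
  have h3 : μ ^ (n + 1) ≤ a * (C * (2 * ν) ^ n) * μ ^ n :=
    h1.trans (le_of_le_of_eq (Nat.mul_le_mul_left a (Nat.mul_le_mul_left C h2)) (by ring))
  rw [pow_succ, mul_comm] at h3
  exact absurd (Nat.le_of_mul_le_mul_right h3 (pow_pos (by omega) n)) (by omega)

/-- The powers `L^j H^(n-j)` of a nef big module are positive. -/
theorem mixed_pos_of_big [IsAlgClosed k] [IsIntegral X] {n : ℕ} (hn : topologicalKrullDim X = n)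
    {H L : X.Modules} (hH : CohB1.IsAmple H) (hL : PicF.IsInvertible L) (hnef : NefX k L) {ν : ℕ}
    (φ : H ⟶ CohB1.tensorPow L ν) [Mono φ] :
    ∀ j, j ≤ n →
      0 < iterD (List.replicate j L ++ List.replicate (n - j) H) (Curv2.euler k X) (Coh.structureModule X) := by
  haveI := CurveCohLib.isNoetherian_of_proper (k := k) (X := X)
  have hO := QCoh.isCoh_structureModule' (X := X)
  have hOd : topologicalKrullDim ↥(CohB1.support (Coh.structureModule X)) = (n : WithBot ℕ∞) := by
    rw [VarAmp.support_structureModule, (Homeomorph.Set.univ X).isHomeomorph.topologicalKrullDim_eq, hn]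
  intro j
  induction j with
  | zero =>
    intro _
    simpa [mult, lead] using (mult_nonneg_and_pos k hH n _ hO hOd.le).2 hOd
  | succ j ih =>
    intro hj
    obtain ⟨E, hE, hEH'⟩ := exists_inverse_pow k hH.1 1
    have hEH : PicF.cl E * PicF.cl H = 1 := by rwa [pow_one] at hEH'
    -- the section of `N = L^ν ⊗ E`
    have hN := H23.PicMul.isInvertible_tensor (InvX.isInvertible_tensorPow hL ν) hE
    have hmono : Mono ((AmpleVan.tw E).map φ) := by
      haveI := AmpleVan.isEquivalence_tw hE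
      infer_instance
    let s : Coh.structureModule X ⟶ CohB1.tensorMod (CohB1.tensorPow L ν) E :=
      (H23.PicMul.cl_eq_iff.1 (show PicF.cl (Coh.structureModule X) = PicF.cl (CohB1.tensorMod H E) by
        rw [H23.PicMul.cl_tensor, mul_comm, hEH]; rfl)).some.hom ≫ (AmpleVan.tw E).map φ
    haveI : Mono s := mono_comp _ _
    have hs0 : InvX.one s ≠ 0 := fun h0 => by
      have hs : s = 0 := QCoh.hom_ext_app fun U r => by
        refine (InvX.app_eq_smul s r).trans ?_
        rw [h0, map_zero, smul_zero]; rfl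
      have hz : IsZero (Coh.structureModule X) := (IsZero.iff_id_eq_zero _).2
        ((cancel_mono s).1 (by rw [hs, comp_zero, comp_zero]))
      have := QCoh.support_eq_empty_of_isZero hz hO.1
      rw [VarAmp.support_structureModule] at this
      exact Set.univ_nonempty.ne_empty this
    set rest := List.replicate j L ++ List.replicate (n - (j + 1)) H with hrest
    have hb : Bin L H rest := bin_mixed L H j _
    have hinv : Inv rest := inv_of_bin hL hH.1 hb
    have hlen : rest.length + 1 = n := by simp [rest]; omega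
    have hgen := genericPoint_mem_genLocus hN hs0
    haveI := mono_mulHom' _ hgen (torFree_structure (X := X))
    have hC := QCoh.isCoh_cokernel hO.1 (AmpleVan.isCoh_tensor hO (AmpleVan.isCoh_invertible hN))
      (mulHom (InvX.ofSect (InvX.one s)) (Coh.structureModule X))
    have h1 := iterD_cons_mulHom (additive_euler k) hinv hN (InvX.ofSect (InvX.one s)) hO
    have hd' : DimLT (Coh.structureModule X) (rest.length + 2) :=
      hOd.le.trans_lt (by exact_mod_cast (show n < rest.length + 2 by omega))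
    have h2 : 0 ≤ iterD (CohB1.tensorMod (CohB1.tensorPow L ν) E :: rest) (Curv2.euler k X) (Coh.structureModule X) := by
      rw [h1]
      refine nonnegIn k rest.length X H L hH hL hnef rest hb rfl _ hC (le_of_lt_succ ?_)
      have := dim_support_lt hn hC (notMem_support_cokernel' _ hgen)
      rwa [DimLT, ← hlen] at this
    have hEneg : iterD (E :: rest) (Curv2.euler k X) (Coh.structureModule X) +
        iterD (H :: rest) (Curv2.euler k X) (Coh.structureModule X) = 0 := by
      rw [← iterD_cons_add (additive_euler k) hinv hE hH.1 hO hd',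
        iterD_cons_congr (additive_euler k) hinv (H23.PicMul.cl_eq_iff.1
          (show PicF.cl (CohB1.tensorMod E H) = PicF.cl (Coh.structureModule X) by
            rw [H23.PicMul.cl_tensor, hEH]; rfl)).some, iterD_cons_structure (additive_euler k) hinv]
    rw [iterD_cons_add (additive_euler k) hinv (InvX.isInvertible_tensorPow hL ν) hE hO hd',
      iterD_cons_pow (additive_euler k) hinv hL hO hd' ν] at h2
    have h3 := ih (by omega)
    have hp : (List.replicate j L ++ List.replicate (n - j) H).Perm (H :: rest) := by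
      rw [show n - j = n - (j + 1) + 1 by omega, List.replicate_succ]
      exact List.perm_middle
    rw [iterD_perm (additive_euler k) hp (inv_of_bin hL hH.1 (bin_mixed L H j _))] at h3
    show 0 < iterD (List.replicate (j + 1) L ++ List.replicate (n - (j + 1)) H) (Curv2.euler k X) _
    rw [List.replicate_succ, List.cons_append]
    change 0 < iterD (L :: rest) _ _
    nlinarith [Nat.cast_nonneg (α := ℤ) ν]

end Groth.Agent.Posit43
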