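import Groth.Agent.Posit43.Big

/-!
# A nef module with positive top self-intersection is big
-/

set_option linter.style.haveILetI false
set_option linter.unusedSectionVars false
set_option backward.isDefEq.respectTransparency false
set_option backward.isDefEq.respectTransparency.types false

universe u

open CategoryTheory CategoryTheory.Limits AlgebraicGeometry TopologicalSpace Opposite
open scoped Groth.Agent.H23.PicMul

attribute [local instance] HasDerivedCategory.standard

noncomputable section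

namespace Groth.Agent.Posit43

open Groth.Agent HilbPoly VarGrow31

theorem expand_ge_top {c : ℕ → ℤ} {q p : ℤ} (hq : 0 ≤ q) (hp : 0 ≤ p) :
    ∀ e a, (∀ j, j ≤ a + e → 0 ≤ c j) → q ^ e * c (a + e) ≤ expand c q p a e
  | 0, a, _ => by simp [expand]
  | e + 1, a, hc => by
    have h1 := expand_ge_top hq hp e (a + 1) fun j hj => hc j (by omega)
    have h2 := (expand_ge hq hp e a fun j hj => hc j (by omega)).2
    rw [show a + 1 + e = a + (e + 1) by omega] at h1
    simp only [expand]
    calc q ^ (e + 1) * c (a + (e + 1)) = q * (q ^ e * c (a + (e + 1))) := by ring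
      _ ≤ q * expand c q p (a + 1) e := mul_le_mul_of_nonneg_left h1 hq
      _ ≤ _ := le_add_of_nonneg_right (mul_nonneg hp h2)

variable (k : Type u) [Field k] {X : Scheme.{u}} [X.Over (Spec (CommRingCat.of k))]
  [IsProper (X ↘ Spec (CommRingCat.of k))]

include k in
/-- An ample module, some power of the given one, with sections not vanishing at any given point. -/
theorem exists_generated_ample {H : X.Modules} (hH : CohB1.IsAmple H) :
    ∃ G : X.Modules, CohB1.IsAmple G ∧
      ∀ x : X, ∃ s : Coh.structureModule X ⟶ G, x ∈ CohB1.genLocus G s := by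
  haveI := CurveCohLib.isNoetherian_of_proper (k := k) (X := X)
  haveI : X.IsSeparated := AmpleX.isSeparated_of_isAmple hH
  obtain ⟨a, ha, κ, _, σ, -, -, hcov⟩ := AmpleX.exists_cover_genLocus hH
  exact ⟨_, AmpleX.isAmple_tensorPow hH ha, fun x => ⟨_, (hcov x).choose_spec⟩⟩

/-- The module `L^a ⊗ H^i`. -/
abbrev mix (L H : X.Modules) (a i : ℕ) : X.Modules :=
  CohB1.tensorMod (CohB1.tensorPow L a) (CohB1.tensorPow H i)

omit [X.Over (Spec (CommRingCat.of k))] [IsProper (X ↘ Spec (CommRingCat.of k))] in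
theorem isInvertible_mix {H L : X.Modules} (hH : PicF.IsInvertible H) (hL : PicF.IsInvertible L) (a i : ℕ) :
    PicF.IsInvertible (mix L H a i) :=
  H23.PicMul.isInvertible_tensor (InvX.isInvertible_tensorPow hL a) (InvX.isInvertible_tensorPow hH i)

/-- Boundedness of the sections of `F ⊗ L^a ⊗ H^i` for `i ≤ a`. -/
def MixBound (L H : X.Modules) (e : ℕ) (F : X.Modules) : Prop :=
  ∃ K : ℕ, ∀ a i, i ≤ a →
    Module.finrank k (Coh.HH X ((AmpleVan.tw (mix L H a i)).obj F) 0) ≤ K * (a + 1) ^ e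

theorem mixBound_of_iso {L H : X.Modules} {e : ℕ} {M M' : X.Modules} (φ : M ≅ M')
    (h : MixBound k L H e M) : MixBound k L H e M' :=
  h.imp fun K hK a i hi =>
    le_of_eq_of_le (finrank_HH_iso k ((AmpleVan.tw (mix L H a i)).mapIso φ.symm) 0) (hK a i hi)

theorem mixBound_of_isZero {L H : X.Modules} {e : ℕ} {M : X.Modules} (hM : IsZero M) : MixBound k L H e M := by
  refine ⟨0, fun a i _ => ?_⟩
  haveI := Euler.subsingleton_HH_of_isZero (M := (AmpleVan.tw (mix L H a i)).obj M)
    ((AmpleVan.tw (mix L H a i)).map_isZero hM) 0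
  rw [Module.finrank_zero_of_subsingleton]
  exact Nat.zero_le _

theorem h0_tw_le {N : X.Modules} (hN : PicF.IsInvertible N) (S : ShortComplex X.Modules) (hS : S.ShortExact)
    (h₁ : Coh.IsCoh S.X₁) (h₂ : Coh.IsCoh S.X₂) (h₃ : Coh.IsCoh S.X₃) :
    Module.finrank k (Coh.HH X (CohB1.tensorMod S.X₂ N) 0) ≤
      Module.finrank k (Coh.HH X (CohB1.tensorMod S.X₁ N) 0) +
        Module.finrank k (Coh.HH X (CohB1.tensorMod S.X₃ N) 0) := by
  have h := (VarGrow31.twist_bounds k hN hS h₁ h₂ h₃ 0 1).1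
  have e : ∀ A : X.Modules, hd k N A 0 1 = Module.finrank k (Coh.HH X (CohB1.tensorMod A N) 0) := fun A =>
    finrank_HH_congr k (by
      show PicF.cl (CohB1.tensorMod A (CohB1.tensorPow N 1)) = _
      rw [H23.PicMul.cl_tensor, H23.PicMul.cl_tensor, H23.PicMul.cl_tensorPow, pow_one]) 0
  rw [e, e, e] at h
  exact h

theorem mixBound_ext {L H : X.Modules} (hH : PicF.IsInvertible H) (hL : PicF.IsInvertible L) {e : ℕ}
    (S : ShortComplex X.Modules) (hS : S.ShortExact) (h₁ : Coh.IsCoh S.X₁) (h₂ : Coh.IsCoh S.X₂)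
    (h₃ : Coh.IsCoh S.X₃) (a₁ : MixBound k L H e S.X₁) (a₃ : MixBound k L H e S.X₃) :
    MixBound k L H e S.X₂ := by
  obtain ⟨K₁, hK₁⟩ := a₁
  obtain ⟨K₃, hK₃⟩ := a₃
  haveI := CurveCohLib.isNoetherian_of_proper (k := k) (X := X)
  refine ⟨K₁ + K₃, fun a i hi => ?_⟩
  rw [add_mul]
  exact (h0_tw_le k (isInvertible_mix hH hL a i) S hS h₁ h₂ h₃).trans (add_le_add (hK₁ a i hi) (hK₃ a i hi))

theorem mixBound_piece {H L : X.Modules} (hH : PicF.IsInvertible H) (hL : PicF.IsInvertible L)
    {Z : Scheme.{u}} (j : Z ⟶ X) [IsClosedImmersion j] [IsIntegral Z]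
    {I : Z.Modules} (ι : I ⟶ Coh.structureModule Z) [Mono ι] (hI : Coh.IsCoh I) (hI0 : ¬ IsZero I)
    (u : Coh.structureModule X ⟶ H) (hu : j (genericPoint Z) ∈ CohB1.genLocus H u) {e : ℕ}
    (hd : topologicalKrullDim ↥(closure ({j (genericPoint Z)} : Set X)) < ((e + 1 : ℕ) : WithBot ℕ∞)) :
    MixBound k L H e ((Coh.push j).obj I) := by
  haveI := CurveCohLib.isNoetherian_of_proper (k := k) (X := X)
  have hLH := H23.PicMul.isInvertible_tensor hL hH
  have hMc := QCoh.isCoh_push j hI
  obtain ⟨K, hK⟩ := small_of_support k hLH hMc (d := e + 1) (by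
    rw [QCoh.support_push_ideal j ι hI.1 hI0]
    exact hd) 0
  refine ⟨K, fun a i hi => le_trans ?_ (hK a)⟩
  have hpow : j (genericPoint Z) ∈ CohB1.genLocus _ (InvX.powHom u (a - i)) := by
    rcases Nat.eq_zero_or_pos (a - i) with h0 | hpos
    · rw [h0]
      exact InvX.le_genLocus _ (by rw [AModX.res_self]; exact InvX.isFrame_one ⊤)
        (show j (genericPoint Z) ∈ (⊤ : X.Opens) from trivial)
    · obtain ⟨t, ht⟩ := Nat.exists_eq_add_of_le' hpos
      rw [ht, InvX.genLocus_powHom hH]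
      exact hu
  haveI := mono_mulHom_piece j ι (InvX.powHom u (a - i)) hpow
  have hN := isInvertible_mix hH hL a i
  haveI := AmpleVan.isEquivalence_tw hN
  let f := (AmpleVan.tw (mix L H a i)).map (mulHom (InvX.powHom u (a - i)) ((Coh.push j).obj I))
  haveI : Mono f := inferInstance
  have hB : Coh.IsCoh ((AmpleVan.tw (mix L H a i)).obj
      (CohB1.tensorMod ((Coh.push j).obj I) (CohB1.tensorPow H (a - i)))) :=
    AmpleVan.isCoh_tensor (AmpleVan.isCoh_tensor hMc
      (AmpleVan.isCoh_invertible (InvX.isInvertible_tensorPow hH _))) (AmpleVan.isCoh_invertible hN)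
  refine (VarNef31.finrank_h0_le_of_mono k hB f).trans (le_of_eq (finrank_HH_congr k ?_ 0))
  show PicF.cl (CohB1.tensorMod (CohB1.tensorMod ((Coh.push j).obj I) (CohB1.tensorPow H (a - i))) (mix L H a i)) =
    PicF.cl (CohB1.tensorMod ((Coh.push j).obj I) (CohB1.tensorPow (CohB1.tensorMod L H) a))
  simp only [mix, H23.PicMul.cl_tensor, H23.PicMul.cl_tensorPow, mul_pow]
  rw [mul_assoc, mul_left_comm (PicF.cl H ^ (a - i)), ← pow_add, Nat.sub_add_cancel hi]

/-- Sections of the twists `F ⊗ L^a ⊗ H^i`, `i ≤ a`, are bounded by the dimension of the support. -/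
theorem exists_mixed_bound {H L : X.Modules} (hH : PicF.IsInvertible H) (hL : PicF.IsInvertible L)
    (hgen : ∀ x : X, ∃ s : Coh.structureModule X ⟶ H, x ∈ CohB1.genLocus H s) {e : ℕ}
    {F : X.Modules} (hF : Coh.IsCoh F)
    (hd : topologicalKrullDim ↥(CohB1.support F) < ((e + 1 : ℕ) : WithBot ℕ∞)) : MixBound k L H e F := by
  haveI := CurveCohLib.isNoetherian_of_proper (k := k) (X := X)
  refine devissage_pieces (MixBound k L H e) (mixBound_of_iso k) (mixBound_of_isZero k)
    (fun S hS h₁ h₂ h₃ => mixBound_ext k hH hL S hS h₁ h₂ h₃)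
    (T := CohB1.support F) (fun Z j _ _ I ι _ hI hI0 hsub => ?_) hF subset_rfl
  exact mixBound_piece k hH hL j ι hI hI0 _ (hgen _).choose_spec
    ((H23.TopDim.dim_le_dim_of_subset hsub).trans_lt hd)

/-- Sections of `L^a ⊗ H^j` against those of `L^a`. -/
theorem exists_h0_mix_le [IsIntegral X] {e : ℕ} (hn : topologicalKrullDim X = ((e + 1 : ℕ) : WithBot ℕ∞))
    {H L : X.Modules} (hH : PicF.IsInvertible H) (hL : PicF.IsInvertible L)
    (hgen : ∀ x : X, ∃ s : Coh.structureModule X ⟶ H, x ∈ CohB1.genLocus H s) :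
    ∃ K : ℕ, ∀ a j, j ≤ a + 1 → Module.finrank k (Coh.HH X (mix L H a j) 0) ≤
      Module.finrank k (Coh.HH X (CohB1.tensorPow L a) 0) + j * (K * (a + 1) ^ e) := by
  haveI := CurveCohLib.isNoetherian_of_proper (k := k) (X := X)
  obtain ⟨s, hs⟩ := hgen (genericPoint X)
  have hO := QCoh.isCoh_structureModule' (X := X)
  haveI := mono_mulHom' s hs (torFree_structure (X := X))
  have hP : Coh.IsCoh (CohB1.tensorMod (Coh.structureModule X) H) :=
    AmpleVan.isCoh_tensor hO (AmpleVan.isCoh_invertible hH)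
  have hC := QCoh.isCoh_cokernel hO.1 hP (mulHom s (Coh.structureModule X))
  have hS : (ShortComplex.mk (mulHom s (Coh.structureModule X)) (cokernel.π _) (cokernel.condition _)).ShortExact :=
    .mk' (ShortComplex.exact_of_g_is_cokernel _ (cokernelIsCokernel _)) ‹_› inferInstance
  obtain ⟨K, hK⟩ := exists_mixed_bound k hH hL hgen hC (dim_support_lt hn hC (notMem_support_cokernel' s hs))
  have hstep : ∀ a i, i ≤ a → Module.finrank k (Coh.HH X (mix L H a (i + 1)) 0) ≤
      Module.finrank k (Coh.HH X (mix L H a i) 0) + K * (a + 1) ^ e := fun a i hi => by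
    have hb := h0_tw_le k (isInvertible_mix hH hL a i)
      (ShortComplex.mk (mulHom s (Coh.structureModule X)) (cokernel.π _) (cokernel.condition _)) hS hO hP hC
    have e1 : Module.finrank k (Coh.HH X ((AmpleVan.tw (mix L H a i)).obj (Coh.structureModule X)) 0) =
        Module.finrank k (Coh.HH X (mix L H a i) 0) := finrank_HH_congr k (by
      show PicF.cl (CohB1.tensorMod (Coh.structureModule X) _) = _
      rw [H23.PicMul.cl_tensor, ← H23.PicMul.one_def, one_mul]) 0
    have e2 : Module.finrank k (Coh.HH X ((AmpleVan.tw (mix L H a i)).obj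
        (CohB1.tensorMod (Coh.structureModule X) H)) 0) =
        Module.finrank k (Coh.HH X (mix L H a (i + 1)) 0) := finrank_HH_congr k (by
      show PicF.cl (CohB1.tensorMod (CohB1.tensorMod (Coh.structureModule X) H) _) = _
      simp only [mix, H23.PicMul.cl_tensor, H23.PicMul.cl_tensorPow, ← H23.PicMul.one_def, one_mul, pow_succ]
      rw [mul_comm (PicF.cl H), mul_assoc]) 0
    exact e2.symm.trans_le (hb.trans (add_le_add e1.le (hK a i hi)))
  refine ⟨K, fun a j => ?_⟩
  induction j with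
  | zero =>
    intro _
    refine (le_of_eq (finrank_HH_congr k ?_ 0)).trans (Nat.le_add_right _ _)
    simp only [mix, H23.PicMul.cl_tensor, H23.PicMul.cl_tensorPow, pow_zero, mul_one]
  | succ j ih =>
    intro hj
    have := ih (by omega); have := hstep a j (by omega)
    rw [add_mul, one_mul]; omega

/-- A quantitative lower bound for the sections of powers of an ample module. -/
theorem exists_h0_ge [IsIntegral X] {n : ℕ} (hn : topologicalKrullDim X = n) {A : X.Modules}
    (hA : CohB1.IsAmple A) {B : ℕ}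
    (hB : ((B * n.factorial : ℕ) : ℤ) < iterD (List.replicate n A) (Curv2.euler k X) (Coh.structureModule X)) :
    ∃ N : ℕ, ∀ m, N ≤ m → B * m ^ n ≤ Module.finrank k (Coh.HH X (CohB1.tensorPow A m) 0) := by
  haveI := CurveCohLib.isNoetherian_of_proper (k := k) (X := X)
  have hO := QCoh.isCoh_structureModule' (X := X)
  obtain ⟨P, hP, hPd, hPa⟩ := exists_poly (additive_euler k) hA.1 hO (SurfInt.dim_support_le hn.le _)
  have hc : (B : ℚ) < P.coeff n := by
    have h : ((B * n.factorial : ℕ) : ℚ) < StabCat.alpha n P := by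
      rw [hPa]
      refine lt_of_eq_of_lt ?_ (Int.cast_lt.2 hB)
      rw [Int.cast_natCast]
    rw [StabCat.alpha, Nat.cast_mul, mul_comm (B : ℚ)] at h
    exact lt_of_mul_lt_mul_left h (by positivity)
  obtain ⟨N, hN⟩ := eventually_pos (P := P - Polynomial.monomial n (B : ℚ)) (d := n)
    ((Polynomial.natDegree_sub_le _ _).trans (max_le hPd (Polynomial.natDegree_monomial_le _)))
    (by rw [Polynomial.coeff_sub, Polynomial.coeff_monomial, if_pos rfl, sub_pos]; exact hc)
  obtain ⟨n₀, hn₀⟩ := (S0051.result k X (X ↘ Spec (CommRingCat.of k)) A hA.1).1 hA _ hO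
  refine ⟨max N n₀, fun m hm => ?_⟩
  have h1 := hN m ((le_max_left _ _).trans hm)
  rw [Polynomial.eval_sub, Polynomial.eval_monomial, ← hP m, sub_pos] at h1
  have h2 : Curv2.euler k X (pw A (Coh.structureModule X) m) =
      (Module.finrank k (Coh.HH X (CohB1.tensorPow A m) 0) : ℤ) := by
    rw [Euler.euler_eq_sum k _ 1 (fun i hi => hn₀ m ((le_max_right _ _).trans hm) i (by omega)),
      Finset.sum_range_one, pow_zero, one_mul, Nat.cast_inj]
    exact (CurveCohLib.hhEquiv (k := k) (CurveTensor.structureTensorIso _) 0).finrank_eq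
  rw [h2] at h1
  have h3 : ((B * m ^ n : ℕ) : ℚ) < ((Module.finrank k (Coh.HH X (CohB1.tensorPow A m) 0) : ℕ) : ℚ) := by
    push_cast
    rw [Int.cast_natCast] at h1
    exact h1
  exact (Nat.cast_lt.1 h3).le

/-- A nef module with positive top self-intersection is big. -/
theorem big_of_top_pos [IsAlgClosed k] [IsIntegral X] {n : ℕ} (hn : topologicalKrullDim X = n)
    {H L : X.Modules} (hH : CohB1.IsAmple H) (hL : PicF.IsInvertible L) (hnef : NefX k L)
    (hpos : 0 < iterD (List.replicate n L) (Curv2.euler k X) (Coh.structureModule X)) :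
    ∃ (ν : ℕ) (A : X.Modules) (φ : A ⟶ CohB1.tensorPow L ν), 0 < ν ∧ CohB1.IsAmple A ∧ Mono φ := by
  haveI := CurveCohLib.isNoetherian_of_proper (k := k) (X := X)
  rcases n with _ | e
  · refine ⟨1, CohB1.tensorPow L 1, 𝟙 _, Nat.one_pos, ?_, inferInstance⟩
    refine isAmple_of_pos k 0 X hn.le H _ hH (InvX.isInvertible_tensorPow hL 1) fun Z i _ _ d hd hZ => ?_
    have := (dim_le_of_isClosedImmersion i).trans hn.le
    rw [hZ] at this
    exact absurd (by exact_mod_cast this : d ≤ 0) (by omega)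
  obtain ⟨G, hG, hgen⟩ := exists_generated_ample k hH
  have hO := QCoh.isCoh_structureModule' (X := X)
  obtain ⟨K, hsum⟩ := exists_h0_mix_le k hn hG.1 hL hgen
  obtain ⟨q, hq0, hq⟩ : ∃ q : ℕ, 0 < q ∧ (e + 1).factorial * (K * 2 ^ e + 1) < q :=
    ⟨(e + 1).factorial * (K * 2 ^ e + 1) + 1, Nat.succ_pos _, Nat.lt_succ_self _⟩
  set A := CohB1.tensorMod (CohB1.tensorPow L q) (CohB1.tensorPow G 1)
  have hA : CohB1.IsAmple A :=
    isAmple_tensor_nef k hn.le (AmpleX.isAmple_tensorPow hG Nat.one_pos) hL hnef q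
  have hOd : topologicalKrullDim ↥(CohB1.support (Coh.structureModule X)) ≤ ((e + 1 : ℕ) : WithBot ℕ∞) :=
    SurfInt.dim_support_le hn.le _
  have hlead : (((K * (2 * q) ^ e + 1) * (e + 1).factorial : ℕ) : ℤ) <
      iterD (List.replicate (e + 1) A) (Curv2.euler k X) (Coh.structureModule X) := by
    rw [iterD_replicate_qp hL hG.1 hO hOd q 1]
    refine lt_of_lt_of_le ?_ (expand_ge_top (Nat.cast_nonneg q) (Nat.cast_nonneg 1) (e + 1) 0 fun i hi =>
      nonnegIn k (e + 1) X G L hG hL hnef _ (bin_mixed L G i (e + 1 - i)) (by simp; omega) _ hO hOd)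
    rw [Nat.zero_add, Nat.sub_self, List.replicate_zero, List.append_nil]
    refine lt_of_lt_of_le ?_ (le_mul_of_one_le_right (by positivity) hpos)
    have h1 : (K * (2 * q) ^ e + 1) * (e + 1).factorial ≤ (e + 1).factorial * (K * 2 ^ e + 1) * q ^ e := by
      have : 1 ≤ q ^ e := Nat.one_le_pow _ _ hq0
      rw [mul_pow]; nlinarith [Nat.factorial_pos (e + 1)]
    have h2 : (e + 1).factorial * (K * 2 ^ e + 1) * q ^ e < q ^ (e + 1) := by
      rw [pow_succ']; exact Nat.mul_lt_mul_of_pos_right hq (pow_pos hq0 e)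
    exact_mod_cast h1.trans_lt h2
  obtain ⟨N, hN⟩ := exists_h0_ge k hn hA hlead
  refine mono_of_growth k hn hH hL (ν := q * (N + 1)) (a := 1) (Nat.mul_pos hq0 N.succ_pos) fun μ hμ => ?_
  obtain ⟨m, hm⟩ : ∃ m, m = (N + 1) * μ := ⟨_, rfl⟩
  have hm1 : 1 ≤ m := hm ▸ Nat.mul_pos N.succ_pos hμ
  have h1 := hN m ((Nat.le_succ N).trans (hm ▸ Nat.le_mul_of_pos_right _ hμ))
  have h2 : Module.finrank k (Coh.HH X (CohB1.tensorPow A m) 0) =
      Module.finrank k (Coh.HH X (mix L G (q * m) m) 0) := finrank_HH_congr k (by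
    simp only [A, mix, H23.PicMul.cl_tensor, H23.PicMul.cl_tensorPow, pow_one, mul_pow, ← pow_mul]) 0
  have h3 := hsum (q * m) m ((Nat.le_mul_of_pos_left m hq0).trans (Nat.le_succ _))
  have h4 : m * (K * (q * m + 1) ^ e) ≤ K * (2 * q) ^ e * m ^ (e + 1) := by
    have : (q * m + 1) ^ e ≤ (2 * q) ^ e * m ^ e := by
      rw [← mul_pow]; exact Nat.pow_le_pow_left (by nlinarith) e
    calc m * (K * (q * m + 1) ^ e) ≤ m * (K * ((2 * q) ^ e * m ^ e)) :=
          Nat.mul_le_mul_left m (Nat.mul_le_mul_left K this)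
      _ = _ := by ring
  rw [add_mul, one_mul] at h1
  have h6 : μ ^ (e + 1) ≤ m ^ (e + 1) := Nat.pow_le_pow_left (hm ▸ Nat.le_mul_of_pos_left μ N.succ_pos) _
  have h7 : q * (N + 1) * μ = q * m := by rw [hm, mul_assoc]
  rw [h2] at h1
  rw [one_mul, h7]
  omega

end Groth.Agent.Posit43
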