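import Groth.Agent.Posit43.Big

/-!
# Bigness for every ample module and in the form of a real lower bound
-/

set_option linter.style.haveILetI false
set_option linter.unusedSectionVars false
set_option backward.isDefEq.respectTransparency false
set_option backward.isDefEq.respectTransparency.types false

universe u

open CategoryTheory CategoryTheory.Limits AlgebraicGeometry TopologicalSpace Opposite
open scoped Groth.Agent.H23.PicMul

attribute [local instance] HasDerivedCategory.standard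

noncomputable section

namespace Groth.Agent.Posit43

open Groth.Agent HilbPoly

variable {X : Scheme.{u}} [IsIntegral X]

/-- A section not vanishing at the generic point multiplies monomorphically into any larger module. -/
theorem exists_mono_mul {P N Q : X.Modules} (hP : PicF.IsInvertible P) (t : Coh.structureModule X ⟶ N)
    (ht : genericPoint X ∈ CohB1.genLocus N t) (h : PicF.cl P * PicF.cl N = PicF.cl Q) :
    ∃ f : P ⟶ Q, Mono f := by
  haveI := mono_mulHom' t ht (torFree_invertible hP)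
  refine ⟨mulHom t P ≫ (H23.PicMul.cl_eq_iff.1 ?_).some.hom, mono_comp _ _⟩
  show PicF.cl (CohB1.tensorMod P N) = _
  rw [H23.PicMul.cl_tensor, h]

variable (k : Type u) [Field k] [X.Over (Spec (CommRingCat.of k))] [IsProper (X ↘ Spec (CommRingCat.of k))]

include k in
/-- Every ample module maps monomorphically into a power of a given one. -/
theorem exists_mono_ample {A A₀ : X.Modules} (hA : CohB1.IsAmple A) (hA₀ : CohB1.IsAmple A₀) :
    ∃ b : ℕ, 0 < b ∧ ∃ f : A ⟶ CohB1.tensorPow A₀ b, Mono f := by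
  obtain ⟨E, hE, hEA⟩ := exists_inverse_pow k hA.1 1
  rw [pow_one] at hEA
  obtain ⟨b, -, t, hb, -, ht⟩ := exists_sections_at hA₀ hE (genericPoint X)
  refine ⟨b, hb, exists_mono_mul hA.1 t ht ?_⟩
  rw [H23.PicMul.cl_tensor, ← mul_assoc, mul_comm (PicF.cl A), hEA, one_mul]

include k in
/-- Bigness with respect to one ample module gives it for every ample module. -/
theorem mono_every {A A₀ L : X.Modules} (hA : CohB1.IsAmple A) (hA₀ : CohB1.IsAmple A₀)
    (hL : PicF.IsInvertible L) {ν : ℕ} (hν : 0 < ν) (φ : A₀ ⟶ CohB1.tensorPow L ν) [Mono φ] :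
    ∃ (m : ℕ) (ψ : A ⟶ CohB1.tensorPow L m), 0 < m ∧ Mono ψ := by
  obtain ⟨b, hb, f, hf⟩ := exists_mono_ample k hA hA₀
  obtain ⟨g, hg⟩ := exists_mono_pow hA₀.1 (InvX.isInvertible_tensorPow hL ν) φ b
  refine ⟨ν * b, f ≫ g ≫ (H23.PicMul.cl_eq_iff.1 ?_).some.hom, Nat.mul_pos hν hb, mono_comp _ _⟩
  rw [H23.PicMul.cl_tensorPow, H23.PicMul.cl_tensorPow, H23.PicMul.cl_tensorPow, pow_mul]

/-- A big module grows maximally in all large degrees. -/
theorem growth_real {n : ℕ} (hn : topologicalKrullDim X = n) {H L : X.Modules} (hH : CohB1.IsAmple H)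
    (hL : PicF.IsInvertible L) {ν : ℕ} (hν : 0 < ν) (φ : H ⟶ CohB1.tensorPow L ν) [Mono φ] :
    ∃ C : ℝ, 0 < C ∧ ∃ m₁ : ℕ, ∀ m : ℕ, m₁ ≤ m →
      C * (m : ℝ) ^ n ≤ (Module.finrank k (Coh.HH X (CohB1.tensorPow L m) 0) : ℝ) := by
  haveI := CurveCohLib.isNoetherian_of_proper (k := k) (X := X)
  obtain ⟨μ, a, hμ, ha, hg⟩ := growth_of_mono k hn hH hL hν φ
  obtain ⟨g, hg'⟩ := exists_mono_pow hH.1 (InvX.isInvertible_tensorPow hL ν) φ μ
  have hG := AmpleX.isAmple_tensorPow hH hμ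
  have hsec : ∀ j : ℕ, ∃ c : ℕ, ∀ p : ℕ,
      ∃ f : CohB1.tensorPow L p ⟶ CohB1.tensorPow L (p + (μ * c + j)), Mono f := fun j => by
    obtain ⟨b, -, t, -, -, ht⟩ := exists_sections_at hG (InvX.isInvertible_tensorPow hL j) (genericPoint X)
    refine ⟨ν * b, fun p => ?_⟩
    obtain ⟨f₁, hf₁⟩ := exists_mono_mul (Q := CohB1.tensorMod (CohB1.tensorPow L (p + j))
      (CohB1.tensorPow (CohB1.tensorPow H μ) b)) (InvX.isInvertible_tensorPow hL p) t ht (by
      rw [H23.PicMul.cl_tensor, H23.PicMul.cl_tensor, H23.PicMul.cl_tensorPow L, H23.PicMul.cl_tensorPow L,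
        H23.PicMul.cl_tensorPow L, ← mul_assoc, ← pow_add])
    obtain ⟨f₂, hf₂⟩ := exists_mono_pow hG.1
      (InvX.isInvertible_tensorPow (InvX.isInvertible_tensorPow hL ν) μ) g b
    obtain ⟨f₃, hf₃⟩ := VarNef31.exists_mono_tensorMod
      (VarNef31.finLocFree_of_inv (InvX.isInvertible_tensorPow hL (p + j)))
      (VarNef31.finLocFree_of_inv (InvX.isInvertible_tensorPow hG.1 b)) (𝟙 (CohB1.tensorPow L (p + j))) f₂
    refine ⟨f₁ ≫ f₃ ≫ (H23.PicMul.cl_eq_iff.1 ?_).some.hom, mono_comp _ _⟩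
    rw [H23.PicMul.cl_tensor, H23.PicMul.cl_tensorPow, H23.PicMul.cl_tensorPow, H23.PicMul.cl_tensorPow,
      H23.PicMul.cl_tensorPow, H23.PicMul.cl_tensorPow, ← pow_mul, ← pow_mul, ← pow_add]
    congr 1
    ring
  choose c hc using hsec
  obtain ⟨B, hB⟩ : ∃ B, ∀ j, j < μ → c j ≤ B :=
    ⟨(Finset.range μ).sup c, fun j hj => Finset.le_sup (Finset.mem_range.2 hj)⟩
  refine ⟨1 / (((4 * μ) ^ n * a : ℕ) : ℝ), by positivity, μ * (2 * B + 2), fun m hm => ?_⟩
  have hr := Nat.mod_lt m hμ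
  have hdm := Nat.mod_add_div m μ
  have hq : 2 * B + 2 ≤ m / μ := (Nat.le_div_iff_mul_le hμ).2 (by rw [mul_comm]; exact hm)
  have hcB := hB _ hr
  obtain ⟨p, hp⟩ : ∃ p, m / μ = p + c (m % μ) := ⟨m / μ - c (m % μ), by omega⟩
  obtain ⟨f, hf⟩ := hc (m % μ) (μ * p)
  have h1 := hg p (by omega)
  have h2 := VarNef31.finrank_h0_le_of_mono k
    (AmpleVan.isCoh_invertible (InvX.isInvertible_tensorPow hL _)) f
  have hm' : μ * p + (μ * c (m % μ) + m % μ) = m := by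
    rw [← add_assoc, ← mul_add, ← hp]; omega
  rw [hm'] at h2
  have h3 : m ≤ 4 * μ * p := by
    have : μ * (m / μ + 1) ≤ μ * (4 * p) := Nat.mul_le_mul_left μ (by omega)
    rw [mul_add, mul_one] at this
    rw [mul_assoc, mul_left_comm]
    omega
  have h4 : m ^ n ≤ (4 * μ) ^ n * a * Module.finrank k (Coh.HH X (CohB1.tensorPow L m) 0) :=
    calc m ^ n ≤ (4 * μ * p) ^ n := Nat.pow_le_pow_left h3 n
      _ = (4 * μ) ^ n * p ^ n := mul_pow _ _ _
      _ ≤ (4 * μ) ^ n * (a * Module.finrank k (Coh.HH X (CohB1.tensorPow L m) 0)) :=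
        Nat.mul_le_mul_left _ (h1.trans (Nat.mul_le_mul_left a h2))
      _ = _ := (mul_assoc _ _ _).symm
  rw [one_div, inv_mul_le_iff₀ (by positivity)]
  exact_mod_cast h4

omit [IsIntegral X] [IsProper (X ↘ Spec (CommRingCat.of k))] in
/-- A real lower bound in large degrees gives growth along a progression. -/
theorem growth_of_real {n : ℕ} {L : X.Modules}
    (h : ∃ C : ℝ, 0 < C ∧ ∃ m₁ : ℕ, ∀ m : ℕ, m₁ ≤ m →
      C * (m : ℝ) ^ n ≤ (Module.finrank k (Coh.HH X (CohB1.tensorPow L m) 0) : ℝ)) :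
    ∃ ν a : ℕ, 0 < ν ∧ 0 < a ∧ ∀ μ : ℕ, 1 ≤ μ →
      μ ^ n ≤ a * Module.finrank k (Coh.HH X (CohB1.tensorPow L (ν * μ)) 0) := by
  obtain ⟨C, hC, m₁, hm⟩ := h
  obtain ⟨a, ha⟩ := exists_nat_gt (1 / C)
  have ha0 : (0 : ℝ) < a := lt_trans (by positivity) ha
  refine ⟨m₁ + 1, a, m₁.succ_pos, by exact_mod_cast ha0, fun μ hμ => ?_⟩
  have h1 := hm ((m₁ + 1) * μ) ((Nat.le_succ m₁).trans (Nat.le_mul_of_pos_right _ hμ))
  have h2 : (μ : ℝ) ^ n ≤ (((m₁ + 1) * μ : ℕ) : ℝ) ^ n :=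
    pow_le_pow_left₀ (Nat.cast_nonneg μ) (Nat.cast_le.2 (Nat.le_mul_of_pos_left μ m₁.succ_pos)) n
  have h3 : 1 ≤ (a : ℝ) * C := by
    rw [div_lt_iff₀ hC] at ha; exact ha.le
  have h4 : (μ : ℝ) ^ n ≤ (a : ℝ) * (Module.finrank k (Coh.HH X (CohB1.tensorPow L ((m₁ + 1) * μ)) 0) : ℝ) :=
    calc (μ : ℝ) ^ n ≤ (((m₁ + 1) * μ : ℕ) : ℝ) ^ n := h2
      _ ≤ ((a : ℝ) * C) * (((m₁ + 1) * μ : ℕ) : ℝ) ^ n := le_mul_of_one_le_left (by positivity) h3
      _ ≤ _ := by rw [mul_assoc]; exact mul_le_mul_of_nonneg_left h1 ha0.le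
  exact_mod_cast h4

end Groth.Agent.Posit43
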