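import Groth.Agent.Posit43.Iter
import Groth.Agent.SurfInt.Basic
import Groth.Agent.Posit43.Big

/-!
# `FGA.intNum` of inverse modules as an iterated difference
-/

set_option linter.style.haveILetI false
set_option linter.unusedSectionVars false
set_option backward.isDefEq.respectTransparency false
set_option backward.isDefEq.respectTransparency.types false

universe u

open CategoryTheory CategoryTheory.Limits AlgebraicGeometry TopologicalSpace Opposite
open scoped Groth.Agent.H23.PicMul

attribute [local instance] HasDerivedCategory.standard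

noncomputable section

namespace Groth.Agent.Posit43

open Groth.Agent HilbPoly

variable (k : Type u) [Field k] {X : Scheme.{u}} [X.Over (Spec (CommRingCat.of k))]
  [IsProper (X ↘ Spec (CommRingCat.of k))]

theorem dn_eq_iterD {E : X.Modules} (hE : PicF.IsInvertible E) :
    ∀ (r : ℕ) (F : X.Modules), Coh.IsCoh F →
      SurfInt.dn (SurfInt.chiCl k F) (fun _ : Fin r => PicF.cl E) =
        (-1 : ℤ) ^ r * iterD (List.replicate r E) (Curv2.euler k X) F
  | 0, F, _ => by
    rw [SurfInt.dn_zero, SurfInt.chiCl_one, pow_zero, one_mul]; rfl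
  | r + 1, F, hF => by
    haveI := CurveCohLib.isNoetherian_of_proper (k := k) (X := X)
    have hEF : Coh.IsCoh (CohB1.tensorMod F E) := AmpleVan.isCoh_tensor hF (AmpleVan.isCoh_invertible hE)
    rw [SurfInt.dn_succ]
    show SurfInt.dn (SurfInt.chiCl k F) (fun _ : Fin r => PicF.cl E) -
      SurfInt.dn (fun x => SurfInt.chiCl k F (PicF.cl E * x)) (fun _ : Fin r => PicF.cl E) =
        (-1 : ℤ) ^ (r + 1) * (iterD (List.replicate r E) (Curv2.euler k X) (CohB1.tensorMod F E) -
          iterD (List.replicate r E) (Curv2.euler k X) F)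
    rw [← SurfInt.chiCl_tensor, SurfInt.chiCl_congr k (H23.PicMul.comm E F).some,
      dn_eq_iterD hE r F hF, dn_eq_iterD hE r _ hEF]
    ring

theorem iterD_replicate_inv {L E : X.Modules} (hL : PicF.IsInvertible L) (hE : PicF.IsInvertible E)
    (hEL : PicF.cl E * PicF.cl L = 1) {F : X.Modules} (hF : Coh.IsCoh F) {d : ℕ}
    (hd : topologicalKrullDim ↥(CohB1.support F) ≤ (d : WithBot ℕ∞)) :
    ∀ a b, a + b = d →
      iterD (List.replicate a E ++ List.replicate b L) (Curv2.euler k X) F =
        (-1 : ℤ) ^ a * iterD (List.replicate d L) (Curv2.euler k X) F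
  | 0, b, h => by
    simp [show b = d by omega]
  | a + 1, b, h => by
    haveI := CurveCohLib.isNoetherian_of_proper (k := k) (X := X)
    set rest := List.replicate a E ++ List.replicate b L with hrest
    have hinv : Inv rest := inv_append (inv_replicate hE a) (inv_replicate hL b)
    have hd' : DimLT F (rest.length + 2) :=
      hd.trans_lt (by exact_mod_cast (show d < rest.length + 2 by simp [rest]; omega))
    have h1 : iterD (E :: rest) (Curv2.euler k X) F + iterD (L :: rest) (Curv2.euler k X) F = 0 := by
      rw [← iterD_cons_add (additive_euler k) hinv hE hL hF hd',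
        iterD_cons_congr (additive_euler k) hinv (H23.PicMul.cl_eq_iff.1
          (show PicF.cl (CohB1.tensorMod E L) = PicF.cl (Coh.structureModule X) by
            rw [H23.PicMul.cl_tensor, hEL]; rfl)).some, iterD_cons_structure (additive_euler k) hinv]
    have hp : (L :: rest).Perm (List.replicate a E ++ List.replicate (b + 1) L) := by
      rw [List.replicate_succ]; exact List.perm_middle.symm
    have h2 := iterD_replicate_inv hL hE hEL hF hd a (b + 1) (by omega)
    rw [← iterD_perm (additive_euler k) hp (inv_cons hL hinv)] at h2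
    show iterD (E :: rest) (Curv2.euler k X) F = _
    rw [pow_succ, mul_neg_one, neg_mul, ← h2]
    linarith

/-- `FGA.intNum` against the inverse of `L` is the top difference along `L`. -/
theorem intNum_eq_iterD {n r : ℕ} (hn : topologicalKrullDim X ≤ n) {L E : X.Modules}
    (hL : PicF.IsInvertible L) (hEL : ClSub.IsInverseOf E L) {F : X.Modules} (hF : Coh.IsCoh F)
    (hd : topologicalKrullDim ↥(CohB1.support F) ≤ (r : WithBot ℕ∞)) :
    FGA.intNum k X n (fun _ : Fin r => E) F = iterD (List.replicate r L) (Curv2.euler k X) F := by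
  have hE := isInvertible_of_isInverseOf hL hEL
  have hcl : PicF.cl E * PicF.cl L = 1 := by
    rw [← H23.PicMul.cl_tensor, H23.PicMul.one_def]; exact H23.PicMul.cl_eq_iff.2 hEL
  have h := iterD_replicate_inv k hL hE hcl hF hd r 0 (by omega)
  rw [List.replicate_zero, List.append_nil] at h
  rw [SurfInt.intNum_eq_dn k hn (fun _ => hE) hF, dn_eq_iterD k hE r F hF, h, ← mul_assoc, ← mul_pow]
  norm_num

end Groth.Agent.Posit43
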