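import Groth.Agent.HilbPoly.Pos
import Groth.Agent.VarInt.Closed
import Groth.Agent.H23.PicMul

/-!
# Intersection numbers as iterated differences

Symmetry, multilinearity, compatibility with sections and with closed immersions of the iterated
differences `HilbPoly.iterD l χ F` of the Euler characteristic along a list of invertible modules.
-/

set_option linter.style.haveILetI false
set_option linter.unusedSectionVars false
set_option backward.isDefEq.respectTransparency false
set_option backward.isDefEq.respectTransparency.types false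

universe u

open CategoryTheory CategoryTheory.Limits AlgebraicGeometry TopologicalSpace
open scoped Groth.Agent.H23.PicMul

noncomputable section

namespace Groth.Agent.Posit43

open Groth.Agent HilbPoly

variable {X : Scheme.{u}} {φ : X.Modules → ℤ}

/-- All members of the list are invertible. -/
abbrev Inv (l : List X.Modules) : Prop := ∀ N ∈ l, PicF.IsInvertible N

theorem inv_cons {N : X.Modules} {l : List X.Modules} (hN : PicF.IsInvertible N) (hl : Inv l) :
    Inv (N :: l) := fun M hM => by
  rcases List.mem_cons.1 hM with rfl | h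
  exacts [hN, hl M h]

theorem inv_append {l l' : List X.Modules} (h : Inv l) (h' : Inv l') : Inv (l ++ l') := fun M hM =>
  (List.mem_append.1 hM).elim (h M) (h' M)

theorem inv_replicate {N : X.Modules} (hN : PicF.IsInvertible N) (n : ℕ) : Inv (List.replicate n N) :=
  fun _ hM => (List.eq_of_mem_replicate hM) ▸ hN

theorem tensor_assoc_comm (F N M : X.Modules) :
    Nonempty (CohB1.tensorMod (CohB1.tensorMod F N) M ≅ CohB1.tensorMod (CohB1.tensorMod F M) N) :=
  H23.PicMul.cl_eq_iff.1 (by
    rw [H23.PicMul.cl_tensor, H23.PicMul.cl_tensor, H23.PicMul.cl_tensor, H23.PicMul.cl_tensor]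
    exact mul_right_comm _ _ _)

variable [IsLocallyNoetherian X]

theorem iterD_iso (hφ : Additive φ) {l : List X.Modules} (hl : Inv l) {F G : X.Modules} (e : F ≅ G) :
    iterD l φ F = iterD l φ G :=
  (additive_iterD hφ hl).iso _ _ ⟨e⟩

theorem iterD_cons_congr (hφ : Additive φ) {l : List X.Modules} (hl : Inv l) {N N' : X.Modules}
    (e : N ≅ N') (F : X.Modules) : iterD (N :: l) φ F = iterD (N' :: l) φ F := by
  show iterD l φ (CohB1.tensorMod F N) - _ = iterD l φ (CohB1.tensorMod F N') - _
  rw [iterD_iso hφ hl (PicGrp.tensorModIso (Iso.refl F) e)]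

theorem iterD_cons_ext {l l' : List X.Modules} (h : ∀ G, iterD l φ G = iterD l' φ G) (N F : X.Modules) :
    iterD (N :: l) φ F = iterD (N :: l') φ F := by
  show iterD l φ _ - iterD l φ F = iterD l' φ _ - iterD l' φ F
  rw [h, h]

theorem iterD_swap (hφ : Additive φ) {l : List X.Modules} (hl : Inv l) (N M F : X.Modules) :
    iterD (N :: M :: l) φ F = iterD (M :: N :: l) φ F := by
  show (iterD l φ (CohB1.tensorMod (CohB1.tensorMod F N) M) - iterD l φ (CohB1.tensorMod F N)) -
      (iterD l φ (CohB1.tensorMod F M) - iterD l φ F) =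
    (iterD l φ (CohB1.tensorMod (CohB1.tensorMod F M) N) - iterD l φ (CohB1.tensorMod F M)) -
      (iterD l φ (CohB1.tensorMod F N) - iterD l φ F)
  rw [iterD_iso hφ hl (tensor_assoc_comm F N M).some]
  ring

/-- The iterated difference is symmetric. -/
theorem iterD_perm (hφ : Additive φ) {l l' : List X.Modules} (h : l.Perm l') (hl : Inv l) :
    ∀ F, iterD l φ F = iterD l' φ F := by
  induction h with
  | nil => exact fun _ => rfl
  | cons N _ ih => exact fun F => iterD_cons_ext (ih fun M hM => hl M (List.mem_cons_of_mem _ hM)) N F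
  | swap N M t =>
    exact fun F => iterD_swap hφ (fun A hA => hl A (List.mem_cons_of_mem _ (List.mem_cons_of_mem _ hA))) M N F
  | trans p₁ _ ih₁ ih₂ => exact fun F => (ih₁ hl F).trans (ih₂ (fun M hM => hl M (p₁.mem_iff.2 hM)) F)

/-- The defect of linearity. -/
theorem iterD_cons_tensor (hφ : Additive φ) {l : List X.Modules} (hl : Inv l) (N M F : X.Modules) :
    iterD (CohB1.tensorMod N M :: l) φ F =
      iterD (N :: l) φ F + iterD (M :: l) φ F + iterD (N :: M :: l) φ F := by
  show iterD l φ (CohB1.tensorMod F (CohB1.tensorMod N M)) - iterD l φ F =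
    (iterD l φ (CohB1.tensorMod F N) - iterD l φ F) + (iterD l φ (CohB1.tensorMod F M) - iterD l φ F) +
    ((iterD l φ (CohB1.tensorMod (CohB1.tensorMod F N) M) - iterD l φ (CohB1.tensorMod F N)) -
      (iterD l φ (CohB1.tensorMod F M) - iterD l φ F))
  rw [iterD_iso hφ hl (H23.PicMul.assoc F N M).some.symm]
  ring

theorem iterD_cons_structure (hφ : Additive φ) {l : List X.Modules} (hl : Inv l) (F : X.Modules) :
    iterD (Coh.structureModule X :: l) φ F = 0 := by
  show iterD l φ (CohB1.tensorMod F (Coh.structureModule X)) - iterD l φ F = 0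
  rw [iterD_iso hφ hl (H23.PicMul.unit F).some, sub_self]

/-- A section that is injective on `F` lowers the length of the list by one. -/
theorem iterD_cons_mulHom (hφ : Additive φ) {l : List X.Modules} (hl : Inv l) {N : X.Modules}
    (hN : PicF.IsInvertible N) (s : Coh.structureModule X ⟶ N) {F : X.Modules} (hF : Coh.IsCoh F)
    [Mono (mulHom s F)] : iterD (N :: l) φ F = iterD l φ (cokernel (mulHom s F)) := by
  have hP : Coh.IsCoh (CohB1.tensorMod F N) := AmpleVan.isCoh_tensor hF (AmpleVan.isCoh_invertible hN)
  have h := (additive_iterD hφ hl).add (ShortComplex.mk (mulHom s F) (cokernel.π _) (cokernel.condition _))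
    (.mk' (ShortComplex.exact_of_g_is_cokernel _ (cokernelIsCokernel _)) ‹_› inferInstance)
    hF hP (QCoh.isCoh_cokernel hF.1 hP _)
  show iterD l φ (CohB1.tensorMod F N) - iterD l φ F = _
  simp only at h
  rw [h]
  ring

section Linear

variable [CompactSpace X]

/-- Linearity in the first argument, in the top degree. -/
theorem iterD_cons_add (hφ : Additive φ) {l : List X.Modules} (hl : Inv l) {N M : X.Modules}
    (hN : PicF.IsInvertible N) (hM : PicF.IsInvertible M) {F : X.Modules} (hF : Coh.IsCoh F)
    (hd : DimLT F (l.length + 2)) :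
    iterD (CohB1.tensorMod N M :: l) φ F = iterD (N :: l) φ F + iterD (M :: l) φ F := by
  haveI : IsNoetherian X := {}
  rw [iterD_cons_tensor hφ hl, iterD_eq_zero (l.length + 2) hφ (N :: M :: l) rfl
    (inv_cons hN (inv_cons hM hl)) F hF hd, add_zero]

theorem iterD_cons_pow (hφ : Additive φ) {l : List X.Modules} (hl : Inv l) {N : X.Modules}
    (hN : PicF.IsInvertible N) {F : X.Modules} (hF : Coh.IsCoh F) (hd : DimLT F (l.length + 2)) :
    ∀ m : ℕ, iterD (CohB1.tensorPow N m :: l) φ F = (m : ℤ) * iterD (N :: l) φ F
  | 0 => by rw [show CohB1.tensorPow N 0 = Coh.structureModule X from rfl, iterD_cons_structure hφ hl]; simp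
  | m + 1 => by
    show iterD (CohB1.tensorMod (CohB1.tensorPow N m) N :: l) φ F = _
    rw [iterD_cons_add hφ hl (InvX.isInvertible_tensorPow hN m) hN hF hd,
      iterD_cons_pow hφ hl hN hF hd m]
    push_cast
    ring

end Linear

section Push

variable (k : Type u) [Field k] [X.Over (Spec (CommRingCat.of k))]

/-- Compatibility with closed immersions. -/
theorem iterD_push {Z : Scheme.{u}} [IsLocallyNoetherian Z] [Z.Over (Spec (CommRingCat.of k))]
    [IsProper (X ↘ Spec (CommRingCat.of k))] (i : Z ⟶ X) [IsClosedImmersion i]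
    (hi : i ≫ (X ↘ Spec (CommRingCat.of k)) = Z ↘ Spec (CommRingCat.of k)) :
    ∀ {l : List X.Modules}, Inv l → ∀ {F : Z.Modules}, Coh.IsCoh F →
      iterD l (Curv2.euler k X) ((Coh.push i).obj F) =
        iterD (l.map fun N => (Scheme.Modules.pullback i).obj N) (Curv2.euler k Z) F
  | [], _, F, hF => VarInt.euler_push k i hi hF.1
  | N :: l, hl, F, hF => by
    have hN := hl N List.mem_cons_self
    have hl' : Inv l := fun M hM => hl M (List.mem_cons_of_mem _ hM)
    obtain ⟨e⟩ := VarInt.nonempty_push_tensor i F hN
    show iterD l (Curv2.euler k X) (CohB1.tensorMod ((Coh.push i).obj F) N) -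
      iterD l (Curv2.euler k X) ((Coh.push i).obj F) =
      iterD (l.map fun N => (Scheme.Modules.pullback i).obj N) (Curv2.euler k Z)
          (CohB1.tensorMod F ((Scheme.Modules.pullback i).obj N)) -
        iterD (l.map fun N => (Scheme.Modules.pullback i).obj N) (Curv2.euler k Z) F
    rw [iterD_iso (additive_euler k) hl' e,
      iterD_push i hi hl' (AmpleVan.isCoh_tensor hF (AmpleVan.isCoh_invertible (PicClLib.isInvertible_pullback i hN))),
      iterD_push i hi hl' hF]

end Push

end Groth.Agent.Posit43
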