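import Groth.Agent.Posit43.Pencil
import Groth.Agent.VarGrow31.Basic
import Groth.Agent.Snapper.DimVanish
import Groth.Agent.SurfInt.Basic
import Groth.Agent.HilbPoly.Stab

/-!
# Nakai–Moishezon on projective schemes

An invertible module on a projective scheme over an algebraically closed field with positive top
self-intersection on every integral closed subscheme of positive dimension is ample.
-/

set_option linter.style.haveILetI false
set_option linter.unusedSectionVars false
set_option backward.isDefEq.respectTransparency false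
set_option backward.isDefEq.respectTransparency.types false

universe u

open CategoryTheory CategoryTheory.Limits AlgebraicGeometry TopologicalSpace Opposite
open scoped Groth.Agent.H23.PicMul

attribute [local instance] HasDerivedCategory.standard

noncomputable section

namespace Groth.Agent.Posit43

open Groth.Agent HilbPoly VarGrow31

variable (k : Type u) [Field k]

/-- Positive top self-intersection on the integral closed subschemes of positive dimension. -/
def Pos {X : Scheme.{u}} [X.Over (Spec (CommRingCat.of k))] (D : X.Modules) : Prop :=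
  ∀ (Z : Scheme.{u}) (i : Z ⟶ X) [IsClosedImmersion i] [IsIntegral Z] (e : ℕ), 0 < e →
    topologicalKrullDim Z = e →
      0 < iterD (List.replicate e D) (Curv2.euler k X) ((Coh.push i).obj (Coh.structureModule Z))

theorem dim_eq_closure {X Z : Scheme.{u}} (i : Z ⟶ X) [IsClosedImmersion i] [IsIntegral Z] :
    topologicalKrullDim Z = topologicalKrullDim ↥(closure ({i (genericPoint Z)} : Set X)) :=
  (IsHomeomorph.topologicalKrullDim_eq _
    i.isClosedEmbedding.isEmbedding.toHomeomorph.isHomeomorph).trans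
    (by rw [QCoh.range_eq_closure i])

theorem dim_le_of_isClosedImmersion {X Z : Scheme.{u}} (i : Z ⟶ X) [IsClosedImmersion i] :
    topologicalKrullDim Z ≤ topologicalKrullDim X :=
  i.isClosedEmbedding.isEmbedding.isInducing.topologicalKrullDim_le

variable {k} {X : Scheme.{u}}

theorem torFree_structure [IsIntegral X] : TorFree (genericPoint X) (Coh.structureModule X) := fun _ hU =>
  haveI := mono_resUnit_push (𝟙 X) hU
  mono_resUnit_of_mono ((Scheme.Modules.pushforwardId X).app (Coh.structureModule X)).inv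

theorem torFree_invertible [IsIntegral X] {L : X.Modules} (hL : PicF.IsInvertible L) :
    TorFree (genericPoint X) L :=
  torFree_of_iso (CurveTensor.structureTensorIso L) (torFree_tensor hL torFree_structure)

section Mono

variable [IsIntegral X] {M N : X.Modules} (s : Coh.structureModule X ⟶ N)
  (hs : genericPoint X ∈ CohB1.genLocus N s)
include hs

theorem mono_mulHom' (hM : TorFree (genericPoint X) M) : Mono (mulHom s M) := by
  obtain ⟨U, hηU, hU⟩ := InvX.mem_genLocus hs
  haveI := (InvX.isIso_restrict_iff s U).2 hU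
  haveI := hM U hηU
  haveI := isIso_restrict_mulHom s M (U := U)
  exact mono_of_isIso_restrict (U := U) _

theorem notMem_support_cokernel' : genericPoint X ∉ CohB1.support (cokernel (mulHom s M)) := by
  obtain ⟨U, hηU, hU⟩ := InvX.mem_genLocus hs
  haveI := (InvX.isIso_restrict_iff s U).2 hU
  haveI := isIso_restrict_mulHom s M (U := U)
  exact notMem_support_of_isZero_restrict (isZero_restrict_cokernel U _) hηU

end Mono

variable [X.Over (Spec (CommRingCat.of k))] [IsProper (X ↘ Spec (CommRingCat.of k))]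

set_option maxHeartbeats 600000 in
/-- The cohomology of the powers in degrees `≥ 2` is eventually constant. -/
theorem exists_hd_const [IsIntegral X] {H D : X.Modules} (hH : CohB1.IsAmple H) (hD : PicF.IsInvertible D)
    (IH : ∀ C : X.Modules, Coh.IsCoh C → genericPoint X ∉ CohB1.support C → VarAmp.Van D C) :
    ∃ n₀, ∀ i m, n₀ ≤ m → hd k D (Coh.structureModule X) (i + 2) m =
      hd k D (Coh.structureModule X) (i + 2) n₀ := by
  haveI := CurveCohLib.isNoetherian_of_proper (k := k) (X := X)
  haveI : X.IsSeparated := AmpleVan.isSeparated_of_proper (A := k)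
  obtain ⟨b, s, t, -, hs, ht⟩ := exists_sections_at hH hD (genericPoint X)
  have hb := InvX.isInvertible_tensorPow hH.1 b
  have hO := QCoh.isCoh_structureModule' (X := X)
  have hDc := AmpleVan.isCoh_invertible hD
  have hP := H23.PicMul.isInvertible_tensor hD hb
  let S₁ := ShortComplex.mk (mulHom s D) (cokernel.π _) (cokernel.condition _)
  let S₂ := ShortComplex.mk (mulHom t (Coh.structureModule X)) (cokernel.π _) (cokernel.condition _)
  haveI := mono_mulHom' s hs (torFree_invertible hD)
  haveI := mono_mulHom' t ht (torFree_structure (X := X))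
  have hS₁ : S₁.ShortExact :=
    .mk' (ShortComplex.exact_of_g_is_cokernel _ (cokernelIsCokernel _)) ‹_› inferInstance
  have hS₂ : S₂.ShortExact :=
    .mk' (ShortComplex.exact_of_g_is_cokernel _ (cokernelIsCokernel _)) ‹_› inferInstance
  have h12 : Coh.IsCoh S₁.X₂ := AmpleVan.isCoh_tensor hDc (AmpleVan.isCoh_invertible hb)
  have h22 : Coh.IsCoh S₂.X₂ := AmpleVan.isCoh_tensor hO (AmpleVan.isCoh_invertible hP)
  have h13 : Coh.IsCoh S₁.X₃ := QCoh.isCoh_cokernel hDc.1 h12 _
  have h23 : Coh.IsCoh S₂.X₃ := QCoh.isCoh_cokernel hO.1 h22 _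
  obtain ⟨n₁, hn₁⟩ := IH _ h13 (notMem_support_cokernel' s hs)
  obtain ⟨n₂, hn₂⟩ := IH _ h23 (notMem_support_cokernel' t ht)
  let n₀ := max n₁ n₂
  have z1 : ∀ i m, 0 < i → n₀ ≤ m → hd k D S₁.X₃ i m = 0 := fun i m hi hm => by
    haveI : Subsingleton (Coh.HH X (ShStab.twist X D S₁.X₃ m) i) :=
      hn₁ m ((le_max_left _ _).trans hm) i hi
    exact Module.finrank_zero_of_subsingleton
  have z2 : ∀ i m, 0 < i → n₀ ≤ m → hd k D S₂.X₃ i m = 0 := fun i m hi hm => by
    haveI : Subsingleton (Coh.HH X (ShStab.twist X D S₂.X₃ m) i) :=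
      hn₂ m ((le_max_right _ _).trans hm) i hi
    exact Module.finrank_zero_of_subsingleton
  have emid : ∀ i m, hd k D S₁.X₂ i m = hd k D S₂.X₂ i m := fun i m =>
    hd_congr k (H23.PicMul.cl_eq_iff.1 (by
      show PicF.cl (CohB1.tensorMod D (CohB1.tensorPow H b)) =
        PicF.cl (CohB1.tensorMod (Coh.structureModule X) (CohB1.tensorMod D (CohB1.tensorPow H b)))
      rw [H23.PicMul.cl_tensor, H23.PicMul.cl_tensor, H23.PicMul.cl_tensor, ← H23.PicMul.one_def,
        one_mul])).some i m
  have esucc : ∀ i m, hd k D D i m = hd k D (Coh.structureModule X) i (m + 1) := fun i m =>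
    (CurveCohLib.hhEquiv (k := k) (H23.PicMul.cl_eq_iff.1 (by
      show PicF.cl (CohB1.tensorMod D (CohB1.tensorPow D m)) =
        PicF.cl (CohB1.tensorMod (Coh.structureModule X) (CohB1.tensorPow D (m + 1)))
      rw [H23.PicMul.cl_tensor, H23.PicMul.cl_tensor, H23.PicMul.cl_tensorPow, H23.PicMul.cl_tensorPow,
        ← H23.PicMul.one_def, one_mul, pow_succ, mul_comm])).some i).finrank_eq
  have hconst : ∀ i m, n₀ ≤ m → hd k D (Coh.structureModule X) (i + 2) (m + 1) =
      hd k D (Coh.structureModule X) (i + 2) m := fun i m hm => by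
    obtain ⟨a1, -, -, -⟩ := twist_bounds k hD hS₁ hDc h12 h13 (i + 2) m
    obtain ⟨-, -, c1, -⟩ := twist_bounds k hD hS₁ hDc h12 h13 (i + 1) m
    obtain ⟨a2, -, -, -⟩ := twist_bounds k hD hS₂ hO h22 h23 (i + 2) m
    obtain ⟨-, -, c2, -⟩ := twist_bounds k hD hS₂ hO h22 h23 (i + 1) m
    have := z1 (i + 1) m (by omega) hm; have := z1 (i + 2) m (by omega) hm
    have := z2 (i + 1) m (by omega) hm; have := z2 (i + 2) m (by omega) hm
    have := emid (i + 2) m; have := esucc (i + 2) m
    change hd k D S₁.X₂ (i + 2) m ≤ hd k D D (i + 2) m + _ at a1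
    change hd k D D (i + 2) m ≤ hd k D S₁.X₂ (i + 2) m + hd k D S₁.X₃ (i + 1) m at c1
    change hd k D S₂.X₂ (i + 2) m ≤ hd k D (Coh.structureModule X) (i + 2) m + _ at a2
    change hd k D (Coh.structureModule X) (i + 2) m ≤
      hd k D S₂.X₂ (i + 2) m + hd k D S₂.X₃ (i + 1) m at c2
    omega
  have hconst' : ∀ i m, n₀ ≤ m → hd k D (Coh.structureModule X) (i + 2) m =
      hd k D (Coh.structureModule X) (i + 2) n₀ := fun i m hm => by
    induction m, hm using Nat.le_induction with
    | base => rfl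
    | succ m hm ih => rw [hconst i m hm, ih]
  exact ⟨n₀, hconst'⟩

/-- The Euler characteristic is bounded by the sections and the cohomology in degrees `≥ 2`. -/
theorem euler_le_h0_add {F : X.Modules} (hF : Coh.IsQCoh F) {d : ℕ} (hdim : topologicalKrullDim X ≤ d) :
    Curv2.euler k X F ≤ (Module.finrank k (Coh.HH X F 0) : ℤ) +
      ∑ i ∈ Finset.range d, (Module.finrank k (Coh.HH X F (i + 2)) : ℤ) := by
  haveI := CurveCohLib.isNoetherian_of_proper (k := k) (X := X)
  haveI : X.IsSeparated := AmpleVan.isSeparated_of_proper (A := k)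
  rw [Euler.euler_eq_sum k F (d + 2) fun i hi =>
    Snapper.subsingleton_HH_of_dim_le hdim hF (by omega : d < i), Finset.sum_range_succ', Finset.sum_range_succ']
  have h2 : ∑ i ∈ Finset.range d, (-1 : ℤ) ^ (i + 1 + 1) * (Module.finrank k (Coh.HH X F (i + 1 + 1)) : ℤ) ≤
      ∑ i ∈ Finset.range d, (Module.finrank k (Coh.HH X F (i + 2)) : ℤ) :=
    Finset.sum_le_sum fun i _ => by
      rw [show i + 1 + 1 = i + 2 by omega]
      rcases neg_one_pow_eq_or ℤ (i + 2) with h | h <;> rw [h] <;> omega
  rw [pow_zero, one_mul, pow_succ, pow_zero, one_mul]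
  omega

/-- Sections of powers of `D` grow on an integral scheme. -/
theorem exists_two_sections [IsIntegral X] {H D : X.Modules} (hH : CohB1.IsAmple H) (hD : PicF.IsInvertible D)
    {d : ℕ} (hd0 : 0 < d) (hdim : topologicalKrullDim X = d)
    (IH : ∀ C : X.Modules, Coh.IsCoh C → genericPoint X ∉ CohB1.support C → VarAmp.Van D C)
    (hpos : 0 < iterD (List.replicate d D) (Curv2.euler k X) (Coh.structureModule X)) :
    ∃ r : ℕ, 0 < r ∧ 2 ≤ Module.finrank k (Coh.HH X (CohB1.tensorPow D r) 0) := by
  haveI := CurveCohLib.isNoetherian_of_proper (k := k) (X := X)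
  have hO := QCoh.isCoh_structureModule' (X := X)
  obtain ⟨n₀, hconst'⟩ := exists_hd_const (k := k) hH hD IH
  let K : ℕ := ∑ i ∈ Finset.range d, hd k D (Coh.structureModule X) (i + 2) n₀
  have hsupp : topologicalKrullDim ↥(CohB1.support (Coh.structureModule X)) ≤ (d : WithBot ℕ∞) :=
    SurfInt.dim_support_le hdim.le _
  obtain ⟨P, hP', hPd, hPa⟩ := exists_poly (additive_euler k) hD hO hsupp
  have hlead : 0 < P.coeff d := by
    have h : (0 : ℚ) < StabCat.alpha d P := by rw [hPa]; exact Int.cast_pos.2 hpos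
    exact pos_of_mul_pos_right h (by positivity)
  have hQc : (P - Polynomial.C ((K : ℚ) + 2)).coeff d = P.coeff d := by
    rw [Polynomial.coeff_sub, Polynomial.coeff_C_of_ne_zero hd0.ne', sub_zero]
  obtain ⟨N, hN⟩ := eventually_pos (P := P - Polynomial.C ((K : ℚ) + 2)) (d := d)
    ((Polynomial.natDegree_sub_le _ _).trans (max_le hPd ((Polynomial.natDegree_C _).le.trans (Nat.zero_le _))))
    (hQc.symm ▸ hlead)
  obtain ⟨m, hm⟩ : ∃ m : ℕ, m = N + n₀ + 1 := ⟨_, rfl⟩
  refine ⟨m, by omega, ?_⟩
  have h1 := hN m (by omega)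
  rw [Polynomial.eval_sub, Polynomial.eval_C, ← hP' m] at h1
  have hle := euler_le_h0_add (k := k) (isCoh_pw hD hO m).1 hdim.le
  have hK : (∑ i ∈ Finset.range d,
      (Module.finrank k (Coh.HH X (pw D (Coh.structureModule X) m) (i + 2)) : ℤ)) = (K : ℤ) := by
    simp only [K, Nat.cast_sum]
    exact Finset.sum_congr rfl fun i _ => by rw [← hconst' i m (by omega)]; rfl
  have h5 : Module.finrank k (Coh.HH X (pw D (Coh.structureModule X) m) 0) =
      Module.finrank k (Coh.HH X (CohB1.tensorPow D m) 0) :=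
    (CurveCohLib.hhEquiv (k := k) (CurveTensor.structureTensorIso _) 0).finrank_eq
  rw [hK, h5] at hle
  have h6 : ((K + 2 : ℕ) : ℤ) < Curv2.euler k X (pw D (Coh.structureModule X) m) := by
    have h7 := sub_pos.1 h1
    have h8 : (((K + 2 : ℕ) : ℤ) : ℚ) < ((Curv2.euler k X (pw D (Coh.structureModule X) m) : ℤ) : ℚ) := by
      push_cast; exact h7
    exact Int.cast_lt.1 h8
  push_cast at h6
  omega

/-- Twist powers and iterated twists. -/
theorem vanI_of_van [IsIntegral X] {D N : X.Modules} {r : ℕ} (hr : 0 < r)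
    (hN : PicF.cl N = PicF.cl D ^ r) {C : X.Modules} (h : VarAmp.Van D C) : VanI N C := by
  obtain ⟨n₀, hn₀⟩ := h
  refine ⟨n₀, fun m hm p hp => ?_⟩
  refine QCoh.subsingleton_HH_of_iso (H23.PicMul.cl_eq_iff.1 ?_).some _
    (hn₀ (r * m) (hm.trans (Nat.le_mul_of_pos_left m hr)) p hp)
  rw [H23.PicMul.cl_tensor, H23.PicMul.cl_tensorPow, AmpleVan.cl_itw, hN, pow_mul]

theorem van_of_vanI [IsIntegral X] {D N : X.Modules} {r : ℕ} (hr : 0 < r)
    (hN : PicF.cl N = PicF.cl D ^ r) {M : X.Modules}
    (h : ∀ j, VanI N (CohB1.tensorMod M (CohB1.tensorPow D j))) : VarAmp.Van D M := by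
  choose n₀ hn₀ using h
  refine ⟨r * ((Finset.range r).sup n₀ + 1), fun n hn p hp => ?_⟩
  have hq : n₀ (n % r) ≤ n / r := by
    refine le_trans (Finset.le_sup (f := n₀) (Finset.mem_range.2 (Nat.mod_lt _ hr))) ?_
    refine le_trans (Nat.le_succ _) ((Nat.le_div_iff_mul_le hr).2 ?_)
    rw [mul_comm]
    exact hn
  refine QCoh.subsingleton_HH_of_iso (H23.PicMul.cl_eq_iff.1 ?_).some _ (hn₀ (n % r) (n / r) hq p hp)
  rw [AmpleVan.cl_itw, H23.PicMul.cl_tensor, H23.PicMul.cl_tensor, H23.PicMul.cl_tensorPow,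
    H23.PicMul.cl_tensorPow, hN, ← pow_mul, mul_assoc, ← pow_add, Nat.mod_add_div]

/-- Two independent global sections. -/
theorem exists_independent {N : X.Modules} (h : 2 ≤ Module.finrank k (Coh.HH X N 0)) :
    ∃ σ τ : Γ(N, ⊤), σ ≠ 0 ∧ ∀ c : k,
      τ - (show Γ(X, ⊤) from Coh.toGlobal (X ↘ Spec (CommRingCat.of k)) c) • σ ≠ 0 := by
  haveI : Module.Finite k (Coh.HH X N 0) := Module.finite_of_finrank_pos (by omega)
  haveI : Nontrivial (Coh.HH X N 0) := Module.nontrivial_of_finrank_pos (R := k) (by omega)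
  obtain ⟨x, hx⟩ := exists_ne (0 : Coh.HH X N 0)
  obtain ⟨y, hy⟩ := exists_linearIndependent_pair_of_one_lt_rank (R := k) (M := Coh.HH X N 0)
    (by rw [← Module.finrank_eq_rank]; exact_mod_cast h) hx
  let e : Coh.HH X N 0 ≃+ Γ(N, ⊤) := Sheaf.H.equiv₀ (Coh.toAb N) isTerminalTop
  refine ⟨e x, e y, fun h0 => hx (e.map_eq_zero_iff.1 h0), fun c h0 => ?_⟩
  have hc : e (y - c • x) = 0 := by
    rw [map_sub, ← h0]
    refine congrArg (e y - ·) ?_
    refine (CurveCohLib.h0Equiv_smul N c x).trans ?_
    refine congrArg (· • _) ?_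
    exact ConcreteCategory.congr_hom (X.presheaf.map_id (op ⊤)) _
  have h1 := (LinearIndependent.pair_iff.1 hy) (-c) 1 (by
    rw [one_smul, neg_smul, neg_add_eq_sub]; exact e.map_eq_zero_iff.1 hc)
  exact one_ne_zero h1.2

/-- The integral case of the criterion. -/
theorem van_torFree [IsAlgClosed k] [IsIntegral X] {H D : X.Modules} (hH : CohB1.IsAmple H)
    (hD : PicF.IsInvertible D) {d : ℕ} (hd0 : 0 < d) (hdim : topologicalKrullDim X = d)
    (IH : ∀ C : X.Modules, Coh.IsCoh C → genericPoint X ∉ CohB1.support C → VarAmp.Van D C)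
    (hpos : 0 < iterD (List.replicate d D) (Curv2.euler k X) (Coh.structureModule X))
    {M : X.Modules} (hM : Coh.IsCoh M) (hT : TorFree (genericPoint X) M) : VarAmp.Van D M := by
  haveI := CurveCohLib.isNoetherian_of_proper (k := k) (X := X)
  obtain ⟨r, hr, h2⟩ := exists_two_sections hH hD hd0 hdim IH hpos
  obtain ⟨σ, τ, hσ, hind⟩ := exists_independent h2
  have hN := H23.PicMul.isInvertible_tensorPow hD r
  have hcl := H23.PicMul.cl_tensorPow D r
  refine van_of_vanI hr hcl fun j => ?_
  have hj := H23.PicMul.isInvertible_tensorPow hD j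
  exact vanI_of_pencil k hN hσ hind (fun C hC hη => vanI_of_van hr hcl (IH C hC hη))
    (AmpleVan.isCoh_tensor hM (AmpleVan.isCoh_invertible hj)) (torFree_tensor hj hT)

/-- Positivity passes to closed subschemes. -/
theorem pos_pullback {Z : Scheme.{u}} [Z.Over (Spec (CommRingCat.of k))] (i : Z ⟶ X) [IsClosedImmersion i]
    (hi : i ≫ (X ↘ Spec (CommRingCat.of k)) = Z ↘ Spec (CommRingCat.of k))
    {D : X.Modules} (hD : PicF.IsInvertible D) (h : Pos k D) :
    Pos k ((Scheme.Modules.pullback i).obj D) := by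
  intro W j _ _ e he hdim
  haveI := CurveCohLib.isNoetherian_of_proper (k := k) (X := X)
  haveI : IsLocallyNoetherian Z := LocallyOfFiniteType.isLocallyNoetherian i
  haveI : CompactSpace Z := QuasiCompact.compactSpace_of_compactSpace i
  haveI : IsNoetherian Z := {}
  have hWc : Coh.IsCoh ((Coh.push j).obj (Coh.structureModule W)) := QCoh.isCoh_push_structure j
  have h1 := h W (j ≫ i) e he hdim
  have h2 : iterD (List.replicate e D) (Curv2.euler k X) ((Coh.push (j ≫ i)).obj (Coh.structureModule W)) =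
      iterD (List.replicate e D) (Curv2.euler k X)
        ((Coh.push i).obj ((Coh.push j).obj (Coh.structureModule W))) :=
    iterD_iso (additive_euler k) (inv_replicate hD e)
      ((Scheme.Modules.pushforwardComp j i).symm.app (Coh.structureModule W))
  rw [h2, iterD_push k i hi (inv_replicate hD e) hWc, List.map_replicate] at h1
  exact h1

variable (k) in
set_option maxHeartbeats 800000 in
/-- **Nakai–Moishezon for projective schemes over an algebraically closed field.** -/
theorem isAmple_of_pos [IsAlgClosed k] (d : ℕ) : ∀ (X : Scheme.{u}) [X.Over (Spec (CommRingCat.of k))]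
    [IsProper (X ↘ Spec (CommRingCat.of k))], topologicalKrullDim X ≤ d → ∀ (H D : X.Modules),
      CohB1.IsAmple H → PicF.IsInvertible D → Pos k D → CohB1.IsAmple D := by
  induction d using Nat.strong_induction_on with
  | _ d IHd =>
  intro X _ _ hd H D hH hD hpos
  haveI := CurveCohLib.isNoetherian_of_proper (k := k) (X := X)
  refine VarAmp.isAmple_of_integral k hD fun Z i hi hZ => ?_
  letI : Z.Over (Spec (CommRingCat.of k)) := ⟨i ≫ (X ↘ Spec (CommRingCat.of k))⟩
  haveI : IsProper (Z ↘ Spec (CommRingCat.of k)) :=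
    (inferInstance : IsProper (i ≫ (X ↘ Spec (CommRingCat.of k))))
  haveI : CompactSpace Z := QuasiCompact.compactSpace_of_compactSpace i
  have hHZ := AmpleVan.isAmple_pullback_of_isEmbedding i i.isClosedEmbedding.isEmbedding hH
  have hDZ := PicClLib.isInvertible_pullback i hD
  have hPZ := pos_pullback i rfl hD hpos
  have hdZ : topologicalKrullDim Z ≤ d := (dim_le_of_isClosedImmersion i).trans hd
  haveI := CurveCohLib.isNoetherian_of_proper (k := k) (X := Z)
  rcases hdZ.lt_or_eq with hlt | heq
  · rcases d with _ | d'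
    · haveI : Nonempty (IrreducibleCloseds Z) :=
        ⟨⟨Set.univ, IrreducibleSpace.isIrreducible_univ Z, isClosed_univ⟩⟩
      exact absurd hlt (not_lt.2 (by exact_mod_cast Order.krullDim_nonneg))
    · exact IHd d' (Nat.lt_succ_self _) Z (le_of_lt_succ hlt) _ _ hHZ hDZ hPZ
  refine (S0051.result k Z (Z ↘ Spec (CommRingCat.of k)) _ hDZ).2 fun M hM => ?_
  rcases d with _ | d'
  · haveI : Z.IsSeparated := AmpleVan.isSeparated_of_proper (A := k)
    exact ⟨0, fun n _ p hp => Snapper.subsingleton_HH_of_dim_le hdZ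
      (isCoh_pw hDZ hM n).1 hp⟩
  set DZ := (Scheme.Modules.pullback i).obj D
  -- dévissage
  have hVext : ∀ S : ShortComplex Z.Modules, S.ShortExact → Coh.IsCoh S.X₁ → Coh.IsCoh S.X₂ →
      Coh.IsCoh S.X₃ → VarAmp.Van DZ S.X₁ → VarAmp.Van DZ S.X₃ → VarAmp.Van DZ S.X₂ :=
    fun S hS _ _ _ h1 h3 => VarAmp.van_ext k hDZ hS h1 h3
  have hzero : ∀ {A : Z.Modules}, IsZero A → VarAmp.Van DZ A := fun {A} hA =>
    ⟨0, fun n _ p _ => Euler.subsingleton_HH_of_isZero
      (M := (AmpleVan.tw (CohB1.tensorPow DZ n)).obj A) ((AmpleVan.tw _).map_isZero hA) p⟩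
  -- supports away from the generic point
  have IH : ∀ C : Z.Modules, Coh.IsCoh C → genericPoint Z ∉ CohB1.support C → VarAmp.Van DZ C := by
    intro C hC hη
    refine devissage_pieces (VarAmp.Van DZ) (fun e h => VarAmp.van_of_iso k e h) hzero hVext
      (T := CohB1.support C) (fun W j _ _ I ι _ hI _ hsub => ?_) hC subset_rfl
    letI : W.Over (Spec (CommRingCat.of k)) := ⟨j ≫ (Z ↘ Spec (CommRingCat.of k))⟩
    haveI : IsProper (W ↘ Spec (CommRingCat.of k)) :=
      (inferInstance : IsProper (j ≫ (Z ↘ Spec (CommRingCat.of k))))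
    haveI : CompactSpace W := QuasiCompact.compactSpace_of_compactSpace j
    refine VarAmp.van_push k hDZ j ?_ hI
    refine IHd d' (Nat.lt_succ_self _) W (le_of_lt_succ ?_) _ _
      (AmpleVan.isAmple_pullback_of_isEmbedding j j.isClosedEmbedding.isEmbedding hHZ)
      (PicClLib.isInvertible_pullback j hDZ) (pos_pullback j rfl hDZ hPZ)
    rw [dim_eq_closure j]
    refine dim_lt_closure (x := genericPoint Z) ?_ isClosed_closure ?_ fun h => hη (hsub h)
    · rw [genericPoint_closure]
      exact (topologicalKrullDim_subspace_le Z Set.univ).trans heq.le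
    · rw [genericPoint_closure]; exact Set.subset_univ _
  have hpos' : 0 < iterD (List.replicate (d' + 1) DZ) (Curv2.euler k Z) (Coh.structureModule Z) := by
    have h1 := hPZ Z (𝟙 Z) (d' + 1) d'.succ_pos heq
    rwa [show iterD (List.replicate (d' + 1) DZ) (Curv2.euler k Z)
        ((Coh.push (𝟙 Z)).obj (Coh.structureModule Z)) = _ from iterD_iso (additive_euler k)
          (inv_replicate hDZ _) ((Scheme.Modules.pushforwardId Z).app (Coh.structureModule Z))] at h1
  refine devissage_pieces (VarAmp.Van DZ) (fun e h => VarAmp.van_of_iso k e h) hzero hVext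
    (T := Set.univ) (fun W j _ _ I ι _ hI hI0 _ => ?_) hM (Set.subset_univ _)
  by_cases hη : genericPoint Z ∈ CohB1.support ((Coh.push j).obj I)
  · refine van_torFree hHZ hDZ d'.succ_pos heq IH hpos' (QCoh.isCoh_push j hI) ?_
    rw [QCoh.support_push_ideal j ι hI.1 hI0] at hη
    intro U hU
    haveI := mono_resUnit_push j (show j (genericPoint W) ∈ U from
      (specializes_iff_mem_closure.2 hη).mem_open U.2 hU)
    haveI : Mono ((Coh.push j).map ι) := Functor.map_mono _ ι
    exact mono_resUnit_of_mono ((Coh.push j).map ι)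
  · exact IH _ (QCoh.isCoh_push j hI) hη

end Groth.Agent.Posit43
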