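import Groth.Agent.Posit43.Nakai
import Groth.Agent.VarAmp.Positive
import Mathlib.Topology.Algebra.Order.Archimedean
import Mathlib.Topology.Order.IntermediateValue
import Mathlib.Topology.Instances.Rat

/-!
# Positivity of nef modules on projective schemes

For `L` nef and `H` ample on a projective scheme over an algebraically closed field all intersection
numbers `(L^j · H^(d-j) · F)` are nonnegative; in particular a nef module tensor an ample one is ample.
-/

set_option linter.style.haveILetI false
set_option linter.unusedSectionVars false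
set_option backward.isDefEq.respectTransparency false
set_option backward.isDefEq.respectTransparency.types false

universe u

open CategoryTheory CategoryTheory.Limits AlgebraicGeometry TopologicalSpace Opposite
open scoped Groth.Agent.H23.PicMul

attribute [local instance] HasDerivedCategory.standard

noncomputable section

namespace Groth.Agent.Posit43

open Groth.Agent HilbPoly

section Arith

variable {R : Type*} [CommRing R]

/-- The expansion of `(q L + p H)^e L^a H^b` in the numbers `c j = L^j H^(d-j)`. -/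
def expand (c : ℕ → R) (q p : R) : ℕ → ℕ → R
  | a, 0 => c a
  | a, e + 1 => q * expand c q p (a + 1) e + p * expand c q p a e

theorem map_expand {S : Type*} [CommRing S] (φ : R →+* S) (c : ℕ → R) (q p : R) :
    ∀ e a, φ (expand c q p a e) = expand (fun j => φ (c j)) (φ q) (φ p) a e
  | 0, _ => rfl
  | e + 1, a => by simp only [expand, map_add, map_mul, map_expand φ c q p e]

theorem expand_homog (c : ℕ → R) (q t : R) :
    ∀ e a, expand c q (q * t) a e = q ^ e * expand c 1 t a e
  | 0, _ => by simp [expand]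
  | e + 1, a => by simp only [expand, expand_homog c q t e]; ring

theorem expand_zero (c : ℕ → R) : ∀ e a, expand c 1 0 a e = c (a + e)
  | 0, _ => rfl
  | e + 1, a => by simp only [expand, expand_zero c e, zero_mul, add_zero, one_mul, add_right_comm a 1 e]; rfl

theorem continuous_expand (c : ℕ → ℝ) : ∀ e a, Continuous fun t => expand c 1 t a e
  | 0, _ => continuous_const
  | e + 1, a => (continuous_const.mul (continuous_expand c e (a + 1))).add
      (continuous_id.mul (continuous_expand c e a))

theorem expand_nonneg {d : ℕ} {c : ℕ → ℝ} (hc : ∀ j, j < d → 0 ≤ c j) {t : ℝ} (ht : 0 ≤ t) :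
    ∀ e a, a + e < d → t ^ e * c a ≤ expand c 1 t a e ∧ 0 ≤ expand c 1 t a e
  | 0, a, h => by simpa [expand] using hc a (by omega)
  | e + 1, a, h => by
    obtain ⟨-, h1⟩ := expand_nonneg hc ht e (a + 1) (by omega)
    obtain ⟨h2, h3⟩ := expand_nonneg hc ht e a (by omega)
    simp only [expand, one_mul]
    refine ⟨?_, add_nonneg h1 (mul_nonneg ht h3)⟩
    calc t ^ (e + 1) * c a = t * (t ^ e * c a) := by ring
      _ ≤ t * expand c 1 t a e := mul_le_mul_of_nonneg_left h2 ht
      _ ≤ _ := le_add_of_nonneg_left h1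

theorem expand_top {d : ℕ} {c : ℕ → ℝ} (hc : ∀ j, j < d → 0 ≤ c j) {t : ℝ} (ht : 0 ≤ t) :
    ∀ e a, a + e = d → c d + (if e = 0 then 0 else t ^ e * c a) ≤ expand c 1 t a e
  | 0, a, h => by simp [expand, show a = d by omega]
  | e + 1, a, h => by
    have h1 := expand_top hc ht e (a + 1) (by omega)
    obtain ⟨h2, h3⟩ := expand_nonneg hc ht e a (by omega)
    simp only [expand, one_mul, if_neg e.succ_ne_zero]
    have h4 : 0 ≤ (if e = 0 then 0 else t ^ e * c (a + 1)) := by
      split_ifs with he
      · exact le_rfl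
      · exact mul_nonneg (pow_nonneg ht e) (hc _ (by omega))
    have h5 : t ^ (e + 1) * c a ≤ t * expand c 1 t a e := by
      rw [pow_succ', mul_assoc]; exact mul_le_mul_of_nonneg_left h2 ht
    linarith

/-- The numerical core of Kleiman's theorem. -/
theorem top_nonneg_of_expand {d : ℕ} (hd : 0 < d) {c : ℕ → ℤ} (h0 : 0 < c 0)
    (hc : ∀ j, j < d → 0 ≤ c j)
    (key : ∀ q p : ℕ, 0 < q → 0 < p → 0 < expand c (q : ℤ) (p : ℤ) 0 d →
      (p : ℤ) ^ d * c 0 ≤ expand c (q : ℤ) (p : ℤ) 0 d) : 0 ≤ c d := by
  by_contra hneg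
  rw [not_le] at hneg
  let cr : ℕ → ℝ := fun j => (c j : ℝ)
  let g : ℝ → ℝ := fun t => expand cr 1 t 0 d
  have hg : Continuous g := continuous_expand cr d 0
  have hc' : ∀ j, j < d → 0 ≤ cr j := fun j hj => by simp only [cr]; exact_mod_cast hc j hj
  have h0' : (1 : ℝ) ≤ cr 0 := by simp only [cr]; exact_mod_cast h0
  have hneg' : cr d < 0 := by simp only [cr]; exact_mod_cast hneg
  let T : ℝ := 1 + 2 * (1 - cr d)
  have hT : 1 ≤ T := by simp only [T]; linarith
  let h : ℝ → ℝ := fun t => g t - cr 0 * t ^ d / 2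
  have hh : Continuous h := hg.sub (((continuous_const.mul (continuous_pow d))).div_const 2)
  have hlo : h 0 < 0 := by
    simp only [h, g, expand_zero, zero_pow hd.ne', mul_zero, zero_div, sub_zero, Nat.zero_add]
    exact hneg'
  have hhi : 0 < h T := by
    have h1 := expand_top hc' (by linarith : (0 : ℝ) ≤ T) d 0 (Nat.zero_add d)
    rw [if_neg hd.ne'] at h1
    have h2 : T ≤ T ^ d := le_self_pow₀ hT hd.ne'
    have h3 : T ≤ T ^ d * cr 0 := h2.trans (le_mul_of_one_le_right (by positivity) h0')
    simp only [h, g]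
    simp only [T] at *
    linarith
  obtain ⟨t₀, ht₀, hroot⟩ := intermediate_value_Ioo (by linarith : (0 : ℝ) ≤ T) hh.continuousOn
    (show (0 : ℝ) ∈ Set.Ioo (h 0) (h T) from ⟨hlo, hhi⟩)
  have hpow : 0 < t₀ ^ d := pow_pos ht₀.1 d
  have hg0 : g t₀ = cr 0 * t₀ ^ d / 2 := by simp only [h] at hroot; linarith
  let U : Set ℝ := {t | 0 < t} ∩ ({t | 0 < g t} ∩ {t | g t < cr 0 * t ^ d})
  have hU : IsOpen U := (isOpen_lt continuous_const continuous_id).inter
    ((isOpen_lt continuous_const hg).inter (isOpen_lt hg (continuous_const.mul (continuous_pow d))))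
  obtain ⟨r, hr1, hr2, hr3⟩ := Rat.denseRange_cast.exists_mem_open hU
    ⟨t₀, ht₀.1, by show 0 < g t₀; rw [hg0]; positivity,
      by show g t₀ < cr 0 * t₀ ^ d; rw [hg0]; nlinarith⟩
  have hrpos : 0 < r := by exact_mod_cast (show (0 : ℝ) < (r : ℝ) from hr1)
  obtain ⟨p, hp⟩ := Int.eq_ofNat_of_zero_le (Rat.num_pos.2 hrpos).le
  have hp0 : 0 < p := by have := Rat.num_pos.2 hrpos; omega
  have hr : (r : ℝ) = (p : ℝ) / (r.den : ℝ) := by
    rw [Rat.cast_def, hp]; norm_num
  have hq : (0 : ℝ) < (r.den : ℝ) := by exact_mod_cast r.den_pos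
  have hmul : (r.den : ℝ) * (r : ℝ) = (p : ℝ) := by rw [hr]; field_simp
  have hcast : (((expand c (r.den : ℤ) (p : ℤ) 0 d) : ℤ) : ℝ) = (r.den : ℝ) ^ d * g r := by
    show (Int.castRingHom ℝ) (expand c (r.den : ℤ) (p : ℤ) 0 d) = _
    rw [map_expand]
    simp only [eq_intCast, Int.cast_natCast]
    rw [← hmul, expand_homog]
  have hpos : 0 < expand c (r.den : ℤ) (p : ℤ) 0 d := by
    have : (0 : ℝ) < ((expand c (r.den : ℤ) (p : ℤ) 0 d : ℤ) : ℝ) := by
      rw [hcast]; exact mul_pos (pow_pos hq d) hr2
    exact_mod_cast this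
  have h1 : (((p : ℤ) ^ d * c 0 : ℤ) : ℝ) ≤ ((expand c (r.den : ℤ) (p : ℤ) 0 d : ℤ) : ℝ) :=
    Int.cast_le.2 (key r.den p r.den_pos hp0 hpos)
  rw [hcast] at h1
  push_cast at h1
  rw [← hmul, mul_pow, mul_assoc] at h1
  have h2 := le_of_mul_le_mul_left h1 (pow_pos hq d)
  change g r < cr 0 * (r : ℝ) ^ d at hr3
  simp only [cr] at hr3
  rw [mul_comm] at h2
  linarith

end Arith

variable (k : Type u) [Field k]

/-- Nonnegative degree on integral curves. -/
def NefX {X : Scheme.{u}} [X.Over (Spec (CommRingCat.of k))] (L : X.Modules) : Prop :=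
  ∀ (Z : Scheme.{u}) (i : Z ⟶ X) [IsClosedImmersion i] [IsIntegral Z], topologicalKrullDim Z = 1 →
    0 ≤ iterD [L] (Curv2.euler k X) ((Coh.push i).obj (Coh.structureModule Z))

variable {k} {X : Scheme.{u}}

/-- Lists in two letters. -/
abbrev Bin (L H : X.Modules) (l : List X.Modules) : Prop := ∀ N ∈ l, N = L ∨ N = H

theorem inv_of_bin {L H : X.Modules} (hL : PicF.IsInvertible L) (hH : PicF.IsInvertible H)
    {l : List X.Modules} (h : Bin L H l) : Inv l := fun N hN => by
  rcases h N hN with rfl | rfl <;> assumption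

variable [X.Over (Spec (CommRingCat.of k))] [IsProper (X ↘ Spec (CommRingCat.of k))]

theorem nefX_pullback {Z : Scheme.{u}} [Z.Over (Spec (CommRingCat.of k))] (i : Z ⟶ X) [IsClosedImmersion i]
    (hi : i ≫ (X ↘ Spec (CommRingCat.of k)) = Z ↘ Spec (CommRingCat.of k))
    {L : X.Modules} (hL : PicF.IsInvertible L) (h : NefX k L) :
    NefX k ((Scheme.Modules.pullback i).obj L) := by
  intro W j _ _ hdim
  haveI := CurveCohLib.isNoetherian_of_proper (k := k) (X := X)
  haveI : IsLocallyNoetherian Z := LocallyOfFiniteType.isLocallyNoetherian i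
  haveI : CompactSpace Z := QuasiCompact.compactSpace_of_compactSpace i
  haveI : IsNoetherian Z := {}
  have hWc : Coh.IsCoh ((Coh.push j).obj (Coh.structureModule W)) := QCoh.isCoh_push_structure j
  have h1 := h W (j ≫ i) hdim
  have hl : Inv [L] := fun N hN => (List.mem_singleton.1 hN) ▸ hL
  have h2 : iterD [L] (Curv2.euler k X) ((Coh.push (j ≫ i)).obj (Coh.structureModule W)) =
      iterD [L] (Curv2.euler k X)
        ((Coh.push i).obj ((Coh.push j).obj (Coh.structureModule W))) :=
    iterD_iso (additive_euler k) hl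
      ((Scheme.Modules.pushforwardComp j i).symm.app (Coh.structureModule W))
  rw [h2, iterD_push k i hi hl hWc] at h1
  exact h1

/-- Nonnegativity of an iterated difference is tested on the structure sheaves of integral closed
subschemes of top dimension. -/
theorem nonneg_of_structure {d : ℕ} {l : List X.Modules} (hl : l.length = d) (hinv : Inv l)
    (h : ∀ (Z : Scheme.{u}) (i : Z ⟶ X) [IsClosedImmersion i] [IsIntegral Z], topologicalKrullDim Z = d →
      0 ≤ iterD l (Curv2.euler k X) ((Coh.push i).obj (Coh.structureModule Z)))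
    {F : X.Modules} (hF : Coh.IsCoh F) (hd : topologicalKrullDim ↥(CohB1.support F) ≤ (d : WithBot ℕ∞)) :
    0 ≤ iterD l (Curv2.euler k X) F := by
  haveI := CurveCohLib.isNoetherian_of_proper (k := k) (X := X)
  have hA := additive_iterD (additive_euler (X := X) k) hinv
  refine devissage_pieces (fun M => 0 ≤ iterD l (Curv2.euler k X) M)
    (fun e h => by rwa [hA.iso _ _ ⟨e⟩] at h) (fun hz => by rw [hA.zero_of_isZero hz])
    (fun S hS h₁ h₂ h₃ a b => by rw [hA.add S hS h₁ h₂ h₃]; exact add_nonneg a b)
    (T := CohB1.support F) (fun Z i _ _ I ι _ hI hI0 hsub => ?_) hF subset_rfl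
  have hdξ : topologicalKrullDim ↥(closure ({i (genericPoint Z)} : Set X)) ≤ (d : WithBot ℕ∞) :=
    (H23.TopDim.dim_le_dim_of_subset hsub).trans hd
  rcases hdξ.lt_or_eq with hlt | heq
  · refine (iterD_eq_zero d (additive_euler k) l hl hinv _ (QCoh.isCoh_push i hI) ?_).ge
    rw [DimLT, QCoh.support_push_ideal i ι hI.1 hI0]
    exact hlt
  · obtain ⟨S, hS, e₁, e₂, h₁, h₂, h₃, h3⟩ := exists_piece_quot i ι hI hI0 hdξ
    have hadd := hA.add S hS h₁ h₂ h₃
    rw [e₁, e₂, iterD_eq_zero d (additive_euler k) l hl hinv _ h₃ h3, add_zero] at hadd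
    rw [← hadd]
    exact h Z i ((dim_eq_closure i).trans heq)

/-- Linearity in `L^q ⊗ H^p`. -/
theorem iterD_cons_qp {L H : X.Modules} (hL : PicF.IsInvertible L) (hH : PicF.IsInvertible H)
    {l : List X.Modules} (hl : Inv l) {F : X.Modules} (hF : Coh.IsCoh F)
    (hd : topologicalKrullDim ↥(CohB1.support F) ≤ ((l.length + 1 : ℕ) : WithBot ℕ∞)) (q p : ℕ) :
    iterD (CohB1.tensorMod (CohB1.tensorPow L q) (CohB1.tensorPow H p) :: l) (Curv2.euler k X) F =
      (q : ℤ) * iterD (L :: l) (Curv2.euler k X) F + (p : ℤ) * iterD (H :: l) (Curv2.euler k X) F := by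
  haveI := CurveCohLib.isNoetherian_of_proper (k := k) (X := X)
  have hd' : DimLT F (l.length + 2) := lt_succ_of_le hd
  rw [iterD_cons_add (additive_euler k) hl (InvX.isInvertible_tensorPow hL q)
      (InvX.isInvertible_tensorPow hH p) hF hd', iterD_cons_pow (additive_euler k) hl hL hF hd',
    iterD_cons_pow (additive_euler k) hl hH hF hd']

/-- Nonnegativity extends to lists containing `L^q ⊗ H^p`. -/
theorem nonneg_qp {L H : X.Modules} (hL : PicF.IsInvertible L) (hH : PicF.IsInvertible H)
    {F : X.Modules} (hF : Coh.IsCoh F) {d : ℕ}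
    (hd : topologicalKrullDim ↥(CohB1.support F) ≤ (d : WithBot ℕ∞))
    (h : ∀ l, Bin L H l → l.length = d → 0 ≤ iterD l (Curv2.euler k X) F) (q p : ℕ) :
    ∀ e l, Bin L H l → e + l.length = d →
      0 ≤ iterD (List.replicate e (CohB1.tensorMod (CohB1.tensorPow L q) (CohB1.tensorPow H p)) ++ l)
        (Curv2.euler k X) F := by
  haveI := CurveCohLib.isNoetherian_of_proper (k := k) (X := X)
  have hD := H23.PicMul.isInvertible_tensor (InvX.isInvertible_tensorPow hL q) (InvX.isInvertible_tensorPow hH p)
  intro e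
  induction e with
  | zero => intro l hb hl; exact h l hb (by omega)
  | succ e ih =>
    intro l hb hl
    set D := CohB1.tensorMod (CohB1.tensorPow L q) (CohB1.tensorPow H p)
    have hinv : Inv (List.replicate e D ++ l) := inv_append (inv_replicate hD e) (inv_of_bin hL hH hb)
    show 0 ≤ iterD (D :: (List.replicate e D ++ l)) (Curv2.euler k X) F
    rw [iterD_cons_qp hL hH hinv hF (hd.trans (by exact_mod_cast (by simp; omega : d ≤ _))) q p]
    have hmove : ∀ N, PicF.IsInvertible N →
        iterD (N :: (List.replicate e D ++ l)) (Curv2.euler k X) F =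
          iterD (List.replicate e D ++ N :: l) (Curv2.euler k X) F := fun N hN =>
      iterD_perm (additive_euler k) List.perm_middle.symm (inv_cons hN hinv) F
    rw [hmove L hL, hmove H hH]
    refine add_nonneg (mul_nonneg (Nat.cast_nonneg q) (ih _ ?_ ?_))
      (mul_nonneg (Nat.cast_nonneg p) (ih _ ?_ ?_))
    · exact List.forall_mem_cons.2 ⟨Or.inl rfl, hb⟩
    · simp; omega
    · exact List.forall_mem_cons.2 ⟨Or.inr rfl, hb⟩
    · simp; omega

/-- Powers of `L^q ⊗ H^p` in terms of the mixed numbers. -/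
theorem iterD_qp_eq_expand {L H : X.Modules} (hL : PicF.IsInvertible L) (hH : PicF.IsInvertible H)
    {F : X.Modules} (hF : Coh.IsCoh F) {d : ℕ}
    (hd : topologicalKrullDim ↥(CohB1.support F) ≤ (d : WithBot ℕ∞)) (q p : ℕ) :
    ∀ e a b, e + a + b = d →
      iterD (List.replicate e (CohB1.tensorMod (CohB1.tensorPow L q) (CohB1.tensorPow H p)) ++
          (List.replicate a L ++ List.replicate b H)) (Curv2.euler k X) F =
        expand (fun j => iterD (List.replicate j L ++ List.replicate (d - j) H) (Curv2.euler k X) F)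
          (q : ℤ) (p : ℤ) a e := by
  haveI := CurveCohLib.isNoetherian_of_proper (k := k) (X := X)
  have hD := H23.PicMul.isInvertible_tensor (InvX.isInvertible_tensorPow hL q) (InvX.isInvertible_tensorPow hH p)
  intro e
  induction e with
  | zero =>
    intro a b h
    simp only [expand, List.replicate_zero, List.nil_append, show d - a = b by omega]
  | succ e ih =>
    intro a b h
    set D := CohB1.tensorMod (CohB1.tensorPow L q) (CohB1.tensorPow H p)
    set l := List.replicate a L ++ List.replicate b H with hldef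
    have hb : Inv l := inv_append (inv_replicate hL a) (inv_replicate hH b)
    have hinv : Inv (List.replicate e D ++ l) := inv_append (inv_replicate hD e) hb
    show iterD (D :: (List.replicate e D ++ l)) (Curv2.euler k X) F = _
    rw [iterD_cons_qp hL hH hinv hF (hd.trans (by exact_mod_cast (by simp [l]; omega : d ≤ _))) q p,
      expand]
    have e1 : (L :: (List.replicate e D ++ l)).Perm
        (List.replicate e D ++ (List.replicate (a + 1) L ++ List.replicate b H)) := by
      rw [List.replicate_succ, List.cons_append]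
      exact List.perm_middle.symm
    have e2 : (H :: (List.replicate e D ++ l)).Perm
        (List.replicate e D ++ (List.replicate a L ++ List.replicate (b + 1) H)) := by
      rw [List.replicate_succ]
      exact List.perm_middle.symm.trans (List.perm_middle.symm.append_left _)
    rw [iterD_perm (additive_euler k) e1 (inv_cons hL hinv),
      iterD_perm (additive_euler k) e2 (inv_cons hH hinv), ih (a + 1) b (by omega), ih a (b + 1) (by omega)]

theorem expand_ge {c : ℕ → ℤ} {q p : ℤ} (hq : 0 ≤ q) (hp : 0 ≤ p) :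
    ∀ e a, (∀ j, j ≤ a + e → 0 ≤ c j) → p ^ e * c a ≤ expand c q p a e ∧ 0 ≤ expand c q p a e
  | 0, a, hc => by simpa [expand] using hc a le_rfl
  | e + 1, a, hc => by
    obtain ⟨-, h1⟩ := expand_ge hq hp e (a + 1) fun j hj => hc j (by omega)
    obtain ⟨h2, h3⟩ := expand_ge hq hp e a fun j hj => hc j (by omega)
    simp only [expand]
    refine ⟨?_, add_nonneg (mul_nonneg hq h1) (mul_nonneg hp h3)⟩
    calc p ^ (e + 1) * c a = p * (p ^ e * c a) := by ring
      _ ≤ p * expand c q p a e := mul_le_mul_of_nonneg_left h2 hp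
      _ ≤ _ := le_add_of_nonneg_left (mul_nonneg hq h1)

variable (k) in
/-- Nonnegativity of the numbers `L^a H^b` in dimension `d`. -/
def NonnegIn (d : ℕ) : Prop :=
  ∀ (X : Scheme.{u}) [X.Over (Spec (CommRingCat.of k))] [IsProper (X ↘ Spec (CommRingCat.of k))]
    (H L : X.Modules), CohB1.IsAmple H → PicF.IsInvertible L → NefX k L →
    ∀ l : List X.Modules, Bin L H l → l.length = d → ∀ F : X.Modules, Coh.IsCoh F →
      topologicalKrullDim ↥(CohB1.support F) ≤ (d : WithBot ℕ∞) → 0 ≤ iterD l (Curv2.euler k X) F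

omit [X.Over (Spec (CommRingCat.of k))] [IsProper (X ↘ Spec (CommRingCat.of k))] in
theorem dim_support_lt [IsNoetherian X] [IsIntegral X] {d : ℕ} (hdim : topologicalKrullDim X = d) {C : X.Modules}
    (hC : Coh.IsCoh C) (hη : genericPoint X ∉ CohB1.support C) : DimLT C d := by
  refine dim_lt_closure (x := genericPoint X) ?_ (QCoh.isClosed_support_of_isFT hC.1 hC.2) ?_ hη
  · rw [genericPoint_closure]
    exact (topologicalKrullDim_subspace_le X Set.univ).trans hdim.le
  · rw [genericPoint_closure]; exact Set.subset_univ _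

theorem isIso_unitToPush {X Y : Scheme.{u}} (j : Y ⟶ X) [IsIso j] :
    Nonempty ((Coh.push j).obj (Coh.structureModule Y) ≅ Coh.structureModule X) := by
  let η : Coh.structureModule X ⟶ (Coh.push j).obj (Coh.structureModule Y) :=
    SheafOfModules.unitToPushforwardObjUnit j.toRingCatSheafHom
  haveI : IsIso η := by
    rw [Scheme.Modules.Hom.isIso_iff_isIso_app]
    intro U
    refine (ConcreteCategory.isIso_iff_bijective _).2 ?_
    exact (ConcreteCategory.isIso_iff_bijective (j.app U)).1 inferInstance
  exact ⟨(asIso η).symm⟩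

/-- A divisor class with a section lowers the dimension. -/
theorem nonneg_of_section [IsIntegral X] {d : ℕ} (hdim : topologicalKrullDim X = (d + 1 : ℕ))
    {N : X.Modules} (hN : CohB1.IsAmple N) {l : List X.Modules} (hl : Inv l) (hlen : l.length = d)
    (h : ∀ C : X.Modules, Coh.IsCoh C → topologicalKrullDim ↥(CohB1.support C) ≤ (d : WithBot ℕ∞) →
      0 ≤ iterD l (Curv2.euler k X) C) :
    0 ≤ iterD (N :: l) (Curv2.euler k X) (Coh.structureModule X) := by
  haveI := CurveCohLib.isNoetherian_of_proper (k := k) (X := X)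
  obtain ⟨b, s, -, hb, hs, -⟩ := exists_sections_at hN hN.1 (genericPoint X)
  have hO := QCoh.isCoh_structureModule' (X := X)
  haveI := mono_mulHom' s hs (torFree_structure (X := X))
  have hNb := InvX.isInvertible_tensorPow hN.1 b
  have hC := QCoh.isCoh_cokernel hO.1 (AmpleVan.isCoh_tensor hO (AmpleVan.isCoh_invertible hNb))
    (mulHom s (Coh.structureModule X))
  have h1 := iterD_cons_mulHom (additive_euler k) hl hNb s hO
  rw [iterD_cons_pow (additive_euler k) hl hN.1 hO
    ((SurfInt.dim_support_le hdim.le _).trans_lt (by rw [hlen]; exact_mod_cast Nat.lt_succ_self (d + 1))) b] at h1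
  have h2 := h _ hC (le_of_lt_succ (dim_support_lt hdim hC (notMem_support_cokernel' s hs)))
  rw [← h1] at h2
  exact nonneg_of_mul_nonneg_right h2 (by exact_mod_cast hb)

theorem iterD_replicate_qp {L H : X.Modules} (hL : PicF.IsInvertible L) (hH : PicF.IsInvertible H)
    {F : X.Modules} (hF : Coh.IsCoh F) {d : ℕ}
    (hd : topologicalKrullDim ↥(CohB1.support F) ≤ (d : WithBot ℕ∞)) (q p : ℕ) :
    iterD (List.replicate d (CohB1.tensorMod (CohB1.tensorPow L q) (CohB1.tensorPow H p)))
        (Curv2.euler k X) F =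
      expand (fun j => iterD (List.replicate j L ++ List.replicate (d - j) H) (Curv2.euler k X) F)
        (q : ℤ) (p : ℤ) 0 d := by
  have h := iterD_qp_eq_expand (k := k) hL hH hF hd q p d 0 0 rfl
  simpa using h

theorem bin_mixed (L H : X.Modules) (a b : ℕ) : Bin L H (List.replicate a L ++ List.replicate b H) :=
  fun _ hN => (List.mem_append.1 hN).imp List.eq_of_mem_replicate List.eq_of_mem_replicate

omit [X.Over (Spec (CommRingCat.of k))] [IsProper (X ↘ Spec (CommRingCat.of k))] in
theorem push_structure_dim [IsNoetherian X] {Z : Scheme.{u}} (i : Z ⟶ X) [IsClosedImmersion i] [IsIntegral Z] :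
    topologicalKrullDim ↥(CohB1.support ((Coh.push i).obj (Coh.structureModule Z))) = topologicalKrullDim Z := by
  haveI : IsLocallyNoetherian Z := LocallyOfFiniteType.isLocallyNoetherian i
  rw [QCoh.support_push_ideal i (𝟙 _) QCoh.isQCoh_structureModule ?_, dim_eq_closure i]
  intro h0
  have := QCoh.support_eq_empty_of_isZero h0 QCoh.isQCoh_structureModule
  rw [VarAmp.support_structureModule] at this
  exact Set.univ_nonempty.ne_empty this

/-- `L^q ⊗ H^p` is ample once its top self-intersection is positive. -/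
theorem isAmple_qp [IsAlgClosed k] [IsIntegral X] {d : ℕ} (IH : ∀ e, e < d → NonnegIn.{u} k e)
    (hdim : topologicalKrullDim X = d) {H L : X.Modules} (hH : CohB1.IsAmple H)
    (hL : PicF.IsInvertible L) (hnef : NefX k L) {q p : ℕ} (hp : 0 < p)
    (hpos : 0 < iterD (List.replicate d (CohB1.tensorMod (CohB1.tensorPow L q) (CohB1.tensorPow H p)))
      (Curv2.euler k X) (Coh.structureModule X)) :
    CohB1.IsAmple (CohB1.tensorMod (CohB1.tensorPow L q) (CohB1.tensorPow H p)) := by
  haveI := CurveCohLib.isNoetherian_of_proper (k := k) (X := X)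
  set D := CohB1.tensorMod (CohB1.tensorPow L q) (CohB1.tensorPow H p)
  have hD : PicF.IsInvertible D :=
    H23.PicMul.isInvertible_tensor (InvX.isInvertible_tensorPow hL q) (InvX.isInvertible_tensorPow hH.1 p)
  refine isAmple_of_pos k d X hdim.le H D hH hD fun W j _ _ e he hW => ?_
  have hWd : e ≤ d := by
    have := (dim_le_of_isClosedImmersion j).trans hdim.le
    rw [hW] at this
    exact_mod_cast this
  rcases hWd.lt_or_eq with hlt | rfl
  · have hM := QCoh.isCoh_push_structure (X := X) j
    have hMd : topologicalKrullDim ↥(CohB1.support ((Coh.push j).obj (Coh.structureModule W))) = (e : WithBot ℕ∞) :=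
      (push_structure_dim j).trans hW
    rw [iterD_replicate_qp hL hH.1 hM hMd.le q p]
    refine lt_of_lt_of_le ?_ (expand_ge (Nat.cast_nonneg q) (Nat.cast_nonneg p) e 0 fun i hi =>
      IH e hlt X H L hH hL hnef _ (bin_mixed L H i (e - i)) (by simp; omega) _ hM hMd.le).1
    refine mul_pos (pow_pos (by exact_mod_cast hp) e) ?_
    have := (mult_nonneg_and_pos k hH e _ hM hMd.le).2 hMd
    simpa [mult, lead] using this
  · have hsur : Surjective j := ⟨fun x => by
      by_contra hx
      have hC : IsClosed (Set.range j) := j.isClosedEmbedding.isClosed_range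
      have hne : genericPoint X ∉ Set.range j := fun hη =>
        hx ((genericPoint_specializes x).mem_closed hC hη)
      have hlt := dim_lt_closure (x := genericPoint X) (n := e) (by
        rw [genericPoint_closure]
        exact (topologicalKrullDim_subspace_le X Set.univ).trans hdim.le) hC
        (by rw [genericPoint_closure]; exact Set.subset_univ _) hne
      rw [← IsHomeomorph.topologicalKrullDim_eq _
        j.isClosedEmbedding.isEmbedding.toHomeomorph.isHomeomorph, hW] at hlt
      exact lt_irrefl _ hlt⟩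
    haveI : IsIso j := isIso_of_isClosedImmersion_of_surjective j
    rw [iterD_iso (additive_euler k) (inv_replicate hD e) (isIso_unitToPush j).some]
    exact hpos

theorem nonneg_core [IsAlgClosed k] [IsIntegral X] {d : ℕ} (IH : ∀ e, e < d → NonnegIn.{u} k e)
    (hdim : topologicalKrullDim X = d) {H L : X.Modules} (hH : CohB1.IsAmple H)
    (hL : PicF.IsInvertible L) (hnef : NefX k L) {l : List X.Modules} (hb : Bin L H l) (hlen : l.length = d) :
    0 ≤ iterD l (Curv2.euler k X) (Coh.structureModule X) := by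
  classical
  haveI := CurveCohLib.isNoetherian_of_proper (k := k) (X := X)
  have hO := QCoh.isCoh_structureModule' (X := X)
  have hOd : topologicalKrullDim ↥(CohB1.support (Coh.structureModule X)) = (d : WithBot ℕ∞) := by
    rw [VarAmp.support_structureModule, (Homeomorph.Set.univ X).isHomeomorph.topologicalKrullDim_eq, hdim]
  have hwithH : ∀ l, Bin L H l → l.length = d → H ∈ l → 0 ≤ iterD l (Curv2.euler k X) (Coh.structureModule X) := by
    intro l hb hlen hmem
    have hp := List.perm_cons_erase hmem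
    rw [iterD_perm (additive_euler k) hp (inv_of_bin hL hH.1 hb)]
    have hle : (l.erase H).length + 1 = d := by
      rw [← hlen, hp.length_eq, List.length_cons]
    have hb' : Bin L H (l.erase H) := fun N hN => hb N (List.mem_of_mem_erase hN)
    subst hle
    exact nonneg_of_section hdim hH (inv_of_bin hL hH.1 hb') rfl fun C hC hCd =>
      IH _ (Nat.lt_succ_self _) X H L hH hL hnef _ hb' rfl C hC hCd
  by_cases hmem : H ∈ l
  · exact hwithH l hb hlen hmem
  have hl : l = List.replicate d L :=
    List.eq_replicate_iff.2 ⟨hlen, fun N hN => (hb N hN).resolve_right fun h => hmem (h ▸ hN)⟩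
  subst hl
  rcases Nat.eq_zero_or_pos d with rfl | hd0
  · exact (mult_nonneg_and_pos k hH 0 _ hO hOd.le).1
  rcases (Nat.one_le_iff_ne_zero.2 hd0.ne').eq_or_lt with rfl | hd2
  · have h := hnef X (𝟙 X) hdim
    rwa [iterD_iso (additive_euler k) (inv_of_bin (H := H) hL hH.1 fun N hN => Or.inl (List.mem_singleton.1 hN))
      (isIso_unitToPush (𝟙 X)).some] at h
  let c : ℕ → ℤ := fun j =>
    iterD (List.replicate j L ++ List.replicate (d - j) H) (Curv2.euler k X) (Coh.structureModule X)
  have hcd : c d = iterD (List.replicate d L) (Curv2.euler k X) (Coh.structureModule X) := by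
    simp only [c, Nat.sub_self, List.replicate_zero, List.append_nil]
  have hc : ∀ j, j < d → 0 ≤ c j := fun j hj =>
    hwithH _ (bin_mixed L H j (d - j)) (by simp; omega)
      (List.mem_append.2 (Or.inr (List.mem_replicate.2 ⟨by omega, rfl⟩)))
  have h0 : 0 < c 0 := by
    have := (mult_nonneg_and_pos k hH d _ hO hOd.le).2 hOd
    simpa [c, mult, lead] using this
  rw [← hcd]
  refine top_nonneg_of_expand hd0 h0 hc fun q p hq hp hpos => ?_
  obtain ⟨e, rfl⟩ : ∃ e, d = e + 2 := ⟨d - 2, by omega⟩
  set D := CohB1.tensorMod (CohB1.tensorPow L q) (CohB1.tensorPow H p)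
  have hexp := iterD_replicate_qp (k := k) hL hH.1 hO hOd.le q p
  have hamp : CohB1.IsAmple D := isAmple_qp IH hdim hH hL hnef hp (hexp ▸ hpos)
  have hLD : 0 ≤ expand c (q : ℤ) (p : ℤ) 1 (e + 1) := by
    have h := iterD_qp_eq_expand (k := k) hL hH.1 hO hOd.le q p (e + 1) 1 0 rfl
    rw [show expand c (q : ℤ) (p : ℤ) 1 (e + 1) = _ from h.symm]
    refine nonneg_of_section hdim hamp (inv_append (inv_replicate hamp.1 e)
      (inv_of_bin hL hH.1 (bin_mixed L H 1 0))) (by simp) fun C hC hCd => ?_
    exact nonneg_qp hL hH.1 hC hCd (fun l' hb' hl' => IH _ (Nat.lt_succ_self _) X H L hH hL hnef l' hb' hl' C hC hCd)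
      q p e _ (bin_mixed L H 1 0) (by simp)
  have h1 := (expand_ge (c := c) (Nat.cast_nonneg q) (Nat.cast_nonneg p) (e + 1) 0
    fun j hj => hc j (by omega)).1
  show (p : ℤ) ^ (e + 2) * c 0 ≤ q * expand c (q : ℤ) (p : ℤ) 1 (e + 1) + p * expand c (q : ℤ) (p : ℤ) 0 (e + 1)
  calc (p : ℤ) ^ (e + 2) * c 0 = p * ((p : ℤ) ^ (e + 1) * c 0) := by ring
    _ ≤ p * expand c (q : ℤ) (p : ℤ) 0 (e + 1) := mul_le_mul_of_nonneg_left h1 (Nat.cast_nonneg p)
    _ ≤ _ := le_add_of_nonneg_left (mul_nonneg (Nat.cast_nonneg q) hLD)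

variable (k) in
/-- **Kleiman's positivity of nef modules.** -/
theorem nonnegIn [IsAlgClosed k] (d : ℕ) : NonnegIn.{u} k d := by
  induction d using Nat.strong_induction_on with
  | _ d IH =>
  intro X _ _ H L hH hL hnef l hb hlen F hF hd
  have hinv := inv_of_bin hL hH.1 hb
  refine nonneg_of_structure hlen hinv (fun Z i _ _ hZ => ?_) hF hd
  letI : Z.Over (Spec (CommRingCat.of k)) := ⟨i ≫ (X ↘ Spec (CommRingCat.of k))⟩
  haveI : IsProper (Z ↘ Spec (CommRingCat.of k)) :=
    (inferInstance : IsProper (i ≫ (X ↘ Spec (CommRingCat.of k))))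
  haveI := CurveCohLib.isNoetherian_of_proper (k := k) (X := X)
  haveI := CurveCohLib.isNoetherian_of_proper (k := k) (X := Z)
  rw [iterD_push k i rfl hinv QCoh.isCoh_structureModule']
  refine nonneg_core IH hZ (AmpleVan.isAmple_pullback_of_isEmbedding i i.isClosedEmbedding.isEmbedding hH)
    (PicClLib.isInvertible_pullback i hL) (nefX_pullback i rfl hL hnef) ?_ (by rw [List.length_map, hlen])
  intro N hN
  obtain ⟨M, hM, rfl⟩ := List.mem_map.1 hN
  exact (hb M hM).imp (congrArg _) (congrArg _)

end Groth.Agent.Posit43
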