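import Groth.Agent.Posit43.Nef
import Groth.Agent.SurfInt.Push

/-!
# Nef tensor ample is ample

Comparison of the curve-degree form of nefness with `NefX`, and ampleness of `L^q ⊗ H^p` for `L` nef.
-/

set_option linter.style.haveILetI false
set_option linter.unusedSectionVars false
set_option backward.isDefEq.respectTransparency false
set_option backward.isDefEq.respectTransparency.types false

universe u

open CategoryTheory CategoryTheory.Limits AlgebraicGeometry TopologicalSpace Opposite
open scoped Groth.Agent.H23.PicMul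

attribute [local instance] HasDerivedCategory.standard

noncomputable section

namespace Groth.Agent.Posit43

open Groth.Agent HilbPoly

variable (k : Type u) [Field k] {X : Scheme.{u}} [X.Over (Spec (CommRingCat.of k))]
  [IsProper (X ↘ Spec (CommRingCat.of k))]

theorem curveDeg_eq_iterD {Y : Scheme.{u}} (i : Y ⟶ X) [IsClosedImmersion i]
    (hd : topologicalKrullDim Y ≤ 1) {L : X.Modules} (hL : PicF.IsInvertible L) :
    Pic13.curveDeg k (i ≫ (X ↘ Spec (CommRingCat.of k))) ((Scheme.Modules.pullback i).obj L) =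
      iterD [L] (Curv2.euler k X) ((Coh.push i).obj (Coh.structureModule Y)) := by
  letI : Y.Over (Spec (CommRingCat.of k)) := ⟨i ≫ (X ↘ Spec (CommRingCat.of k))⟩
  exact SurfInt.curveDeg_eq k i rfl hd hL

/-- The curve-degree form of nefness. -/
theorem nefX_iff {L : X.Modules} (hL : PicF.IsInvertible L) :
    NefX k L ↔ ∀ (Y : Scheme.{u}) (i : Y ⟶ X) [IsClosedImmersion i], IsIntegral Y →
      topologicalKrullDim Y = 1 →
        0 ≤ Pic13.curveDeg k (i ≫ (X ↘ Spec (CommRingCat.of k))) ((Scheme.Modules.pullback i).obj L) := by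
  constructor
  · intro h Y i hi hY hd
    rw [curveDeg_eq_iterD k i hd.le hL]
    exact @h Y i hi hY hd
  · intro h Y i hi hY hd
    have := h Y i hY hd
    rwa [curveDeg_eq_iterD k i hd.le hL] at this

/-- A lower bound for the powers of `L^q ⊗ H^p`. -/
theorem pos_qp [IsAlgClosed k] {L H : X.Modules} (hH : CohB1.IsAmple H) (hL : PicF.IsInvertible L)
    (hnef : NefX k L) (q : ℕ) {p : ℕ} (hp : 0 < p) :
    Pos k (CohB1.tensorMod (CohB1.tensorPow L q) (CohB1.tensorPow H p)) := by
  intro W j _ _ e he hW
  haveI := CurveCohLib.isNoetherian_of_proper (k := k) (X := X)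
  have hM := QCoh.isCoh_push_structure (X := X) j
  have hMd : topologicalKrullDim ↥(CohB1.support ((Coh.push j).obj (Coh.structureModule W))) = (e : WithBot ℕ∞) :=
    (push_structure_dim j).trans hW
  rw [iterD_replicate_qp hL hH.1 hM hMd.le q p]
  refine lt_of_lt_of_le ?_ (expand_ge (Nat.cast_nonneg q) (Nat.cast_nonneg p) e 0 fun i hi =>
    nonnegIn k e X H L hH hL hnef _ (bin_mixed L H i (e - i)) (by simp; omega) _ hM hMd.le).1
  refine mul_pos (pow_pos (by exact_mod_cast hp) e) ?_
  have := (mult_nonneg_and_pos k hH e _ hM hMd.le).2 hMd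
  simpa [mult, lead] using this

include k in
/-- **Nef tensor ample is ample.** -/
theorem isAmple_tensor_nef [IsAlgClosed k] {d : ℕ} (hd : topologicalKrullDim X ≤ d) {L A : X.Modules} (hA : CohB1.IsAmple A)
    (hL : PicF.IsInvertible L) (hnef : NefX k L) (q : ℕ) :
    CohB1.IsAmple (CohB1.tensorMod (CohB1.tensorPow L q) A) := by
  haveI := CurveCohLib.isNoetherian_of_proper (k := k) (X := X)
  have hD := H23.PicMul.isInvertible_tensor (InvX.isInvertible_tensorPow hL q) (InvX.isInvertible_tensorPow hA.1 1)
  refine AmpleX.isAmple_of_iso (H23.PicMul.cl_eq_iff.1 ?_).some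
    (isAmple_of_pos k d X hd A _ hA hD (pos_qp k hA hL hnef q one_pos))
  rw [H23.PicMul.cl_tensor, H23.PicMul.cl_tensor, H23.PicMul.cl_tensorPow A 1, pow_one]

end Groth.Agent.Posit43
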