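import Groth.Agent.Posit43.Big
import Groth.Agent.VarNef31.DegPush

/-!
# Numerically trivial powers and the growth of sections

If `L` is nef and `L^m` is numerically trivial then `h^0(L^a) = O(a^(m-1))`.
-/

set_option linter.style.haveILetI false
set_option linter.unusedSectionVars false
set_option backward.isDefEq.respectTransparency false
set_option backward.isDefEq.respectTransparency.types false

universe u

open CategoryTheory CategoryTheory.Limits AlgebraicGeometry TopologicalSpace Opposite
open scoped Groth.Agent.H23.PicMul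

attribute [local instance] HasDerivedCategory.standard

noncomputable section

namespace Groth.Agent.Posit43

open Groth.Agent HilbPoly VarGrow31

variable (k : Type u) [Field k]

/-- `L^m` vanishes on every integral closed subscheme of dimension `m`. -/
def NumTriv {X : Scheme.{u}} [X.Over (Spec (CommRingCat.of k))] (L : X.Modules) (m : ℕ) : Prop :=
  ∀ (Z : Scheme.{u}) (i : Z ⟶ X) [IsClosedImmersion i] [IsIntegral Z], topologicalKrullDim Z = m →
    iterD (List.replicate m L) (Curv2.euler k X) ((Coh.push i).obj (Coh.structureModule Z)) = 0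

variable {k} {X : Scheme.{u}} [X.Over (Spec (CommRingCat.of k))] [IsProper (X ↘ Spec (CommRingCat.of k))]

/-- Vanishing of an iterated difference is tested on the structure sheaves of integral closed
subschemes of top dimension. -/
theorem zero_of_structure {d : ℕ} {l : List X.Modules} (hl : l.length = d) (hinv : Inv l)
    (h : ∀ (Z : Scheme.{u}) (i : Z ⟶ X) [IsClosedImmersion i] [IsIntegral Z], topologicalKrullDim Z = d →
      iterD l (Curv2.euler k X) ((Coh.push i).obj (Coh.structureModule Z)) = 0)
    {F : X.Modules} (hF : Coh.IsCoh F) (hd : topologicalKrullDim ↥(CohB1.support F) ≤ (d : WithBot ℕ∞)) :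
    iterD l (Curv2.euler k X) F = 0 := by
  haveI := CurveCohLib.isNoetherian_of_proper (k := k) (X := X)
  have hA := additive_iterD (additive_euler (X := X) k) hinv
  refine devissage_pieces (fun M => iterD l (Curv2.euler k X) M = 0)
    (fun e h => by rwa [hA.iso _ _ ⟨e⟩] at h) (fun hz => hA.zero_of_isZero hz)
    (fun S hS h₁ h₂ h₃ a b => by rw [hA.add S hS h₁ h₂ h₃, a, b, add_zero])
    (T := CohB1.support F) (fun Z i _ _ I ι _ hI hI0 hsub => ?_) hF subset_rfl
  have hdξ : topologicalKrullDim ↥(closure ({i (genericPoint Z)} : Set X)) ≤ (d : WithBot ℕ∞) :=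
    (H23.TopDim.dim_le_dim_of_subset hsub).trans hd
  rcases hdξ.lt_or_eq with hlt | heq
  · refine iterD_eq_zero d (additive_euler k) l hl hinv _ (QCoh.isCoh_push i hI) ?_
    rw [DimLT, QCoh.support_push_ideal i ι hI.1 hI0]
    exact hlt
  · obtain ⟨S, hS, e₁, e₂, h₁, h₂, h₃, h3⟩ := exists_piece_quot i ι hI hI0 hdξ
    have hadd := hA.add S hS h₁ h₂ h₃
    rw [e₁, e₂, iterD_eq_zero d (additive_euler k) l hl hinv _ h₃ h3, add_zero, h Z i ((dim_eq_closure i).trans heq)] at hadd
    exact hadd.symm

/-- Slicing by the ample module. -/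
theorem mixed_zero_step {H L : X.Modules} (hH : CohB1.IsAmple H) (hL : PicF.IsInvertible L) {m e : ℕ}
    [IsNoetherian X]
    (ih : ∀ j, m ≤ j → j ≤ e → ∀ F : X.Modules, Coh.IsCoh F →
      topologicalKrullDim ↥(CohB1.support F) ≤ (e : WithBot ℕ∞) →
        iterD (List.replicate j L ++ List.replicate (e - j) H) (Curv2.euler k X) F = 0)
    (j : ℕ) (hmj : m ≤ j) (hj : j ≤ e) {F : X.Modules} (hF : Coh.IsCoh F)
    (hd : topologicalKrullDim ↥(CohB1.support F) ≤ ((e + 1 : ℕ) : WithBot ℕ∞)) :
    iterD (List.replicate j L ++ List.replicate (e + 1 - j) H) (Curv2.euler k X) F = 0 := by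
  refine zero_of_structure (by simp; omega) (inv_of_bin hL hH.1 (bin_mixed L H _ _)) (fun Z i _ _ hZ => ?_) hF hd
  have hp : (List.replicate j L ++ List.replicate (e + 1 - j) H).Perm
      (H :: (List.replicate j L ++ List.replicate (e - j) H)) := by
    rw [show e + 1 - j = e - j + 1 by omega, List.replicate_succ]
    exact List.perm_middle
  have hl := inv_of_bin hL hH.1 (bin_mixed L H j (e - j))
  rw [iterD_perm (additive_euler k) hp (inv_of_bin hL hH.1 (bin_mixed L H _ _))]
  have hM := QCoh.isCoh_push_structure (X := X) i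
  obtain ⟨b, s, -, hb, hs, -⟩ := exists_sections_at hH hH.1 (i (genericPoint Z))
  have hN := InvX.isInvertible_tensorPow hH.1 b
  have hclos : topologicalKrullDim ↥(closure ({i (genericPoint Z)} : Set X)) ≤ ((e + 1 : ℕ) : WithBot ℕ∞) :=
    ((dim_eq_closure i).symm.trans hZ).le
  haveI : IsLocallyNoetherian Z := LocallyOfFiniteType.isLocallyNoetherian i
  haveI := mono_mulHom_piece i (𝟙 (Coh.structureModule Z)) s hs
  have hlt := dimLT_cokernel_piece i (𝟙 _) hN s hs QCoh.isCoh_structureModule' hclos
  have hC := QCoh.isCoh_cokernel hM.1 (AmpleVan.isCoh_tensor hM (AmpleVan.isCoh_invertible hN)) (mulHom s _)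
  have hMd : DimLT ((Coh.push i).obj (Coh.structureModule Z))
      ((List.replicate j L ++ List.replicate (e - j) H).length + 2) := by
    rw [DimLT, push_structure_dim i, hZ]
    exact_mod_cast (show e + 1 < (List.replicate j L ++ List.replicate (e - j) H).length + 2 by simp; omega)
  have h0 := ih j hmj hj _ hC (le_of_lt_succ hlt)
  rw [← iterD_cons_mulHom (additive_euler k) hl hN s hM,
    iterD_cons_pow (additive_euler k) hl hH.1 hM hMd] at h0
  exact (mul_eq_zero.1 h0).resolve_left (by exact_mod_cast hb.ne')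

/-- The mixed numbers with at least `m` factors `L` vanish. -/
theorem mixed_zero {H L : X.Modules} (hH : CohB1.IsAmple H) (hL : PicF.IsInvertible L) {m : ℕ}
    (hnt : NumTriv k L m) :
    ∀ e j, m ≤ j → j ≤ e → ∀ F : X.Modules, Coh.IsCoh F →
      topologicalKrullDim ↥(CohB1.support F) ≤ (e : WithBot ℕ∞) →
        iterD (List.replicate j L ++ List.replicate (e - j) H) (Curv2.euler k X) F = 0 := by
  haveI := CurveCohLib.isNoetherian_of_proper (k := k) (X := X)
  intro e
  induction e with
  | zero =>
    intro j hmj hj F hF hd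
    obtain rfl : j = 0 := by omega
    obtain rfl : m = 0 := by omega
    exact zero_of_structure rfl (fun _ h => absurd h List.not_mem_nil) (fun Z i _ _ hZ => hnt Z i hZ) hF hd
  | succ e ih =>
    intro j hmj hj F hF hd
    rcases hmj.eq_or_lt with rfl | hmj'
    · rcases hj.eq_or_lt with rfl | hj'
      · rw [Nat.sub_self, List.replicate_zero, List.append_nil]
        exact zero_of_structure List.length_replicate (inv_replicate hL _) (fun Z i _ _ hZ => hnt Z i hZ) hF hd
      · exact mixed_zero_step hH hL ih m le_rfl (by omega) hF hd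
    · rcases hj.eq_or_lt with rfl | hj'
      · refine zero_of_structure (by simp) (inv_of_bin hL hH.1 (bin_mixed L H _ _)) (fun Z i _ _ hZ => ?_) hF hd
        rw [Nat.sub_self, List.replicate_zero, List.append_nil, List.replicate_succ]
        have hM := QCoh.isCoh_push_structure (X := X) i
        obtain ⟨b, -, t, hb, -, ht⟩ := exists_sections_at hH hL (i (genericPoint Z))
        have hN := H23.PicMul.isInvertible_tensor hL (InvX.isInvertible_tensorPow hH.1 b)
        have hclos : topologicalKrullDim ↥(closure ({i (genericPoint Z)} : Set X)) ≤ ((e + 1 : ℕ) : WithBot ℕ∞) :=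
          ((dim_eq_closure i).symm.trans hZ).le
        haveI : IsLocallyNoetherian Z := LocallyOfFiniteType.isLocallyNoetherian i
        haveI := mono_mulHom_piece i (𝟙 (Coh.structureModule Z)) t ht
        have hlt := dimLT_cokernel_piece i (𝟙 _) hN t ht QCoh.isCoh_structureModule' hclos
        have hC := QCoh.isCoh_cokernel hM.1 (AmpleVan.isCoh_tensor hM (AmpleVan.isCoh_invertible hN)) (mulHom t _)
        have hl := inv_replicate hL e
        have hMd : DimLT ((Coh.push i).obj (Coh.structureModule Z)) ((List.replicate e L).length + 2) := by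
          rw [DimLT, push_structure_dim i, hZ, List.length_replicate]
          exact_mod_cast Nat.lt_succ_self (e + 1)
        have h0 := ih e (by omega) le_rfl _ hC (le_of_lt_succ hlt)
        rw [Nat.sub_self, List.replicate_zero, List.append_nil] at h0
        rw [← iterD_cons_mulHom (additive_euler k) hl hN t hM,
          iterD_cons_add (additive_euler k) hl hL (InvX.isInvertible_tensorPow hH.1 b) hM hMd,
          iterD_cons_pow (additive_euler k) hl hH.1 hM hMd] at h0
        have h1 := mixed_zero_step hH hL ih e (by omega) le_rfl hM (push_structure_dim i |>.trans hZ).le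
        rw [show e + 1 - e = 1 by omega] at h1
        rw [iterD_perm (additive_euler k) (List.perm_append_comm (l₁ := List.replicate e L))
          (inv_of_bin hL hH.1 (bin_mixed L H _ _))] at h1
        change iterD (H :: List.replicate e L) _ _ = 0 at h1
        rw [h1, mul_zero, add_zero] at h0
        exact h0
      · exact mixed_zero_step hH hL ih j (by omega) (by omega) hF hd

theorem numTriv_pullback {Z : Scheme.{u}} [Z.Over (Spec (CommRingCat.of k))] (i : Z ⟶ X) [IsClosedImmersion i]
    (hi : i ≫ (X ↘ Spec (CommRingCat.of k)) = Z ↘ Spec (CommRingCat.of k))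
    {L : X.Modules} (hL : PicF.IsInvertible L) {m : ℕ} (h : NumTriv k L m) :
    NumTriv k ((Scheme.Modules.pullback i).obj L) m := by
  intro W j _ _ hdim
  haveI := CurveCohLib.isNoetherian_of_proper (k := k) (X := X)
  haveI : IsLocallyNoetherian Z := LocallyOfFiniteType.isLocallyNoetherian i
  haveI : CompactSpace Z := QuasiCompact.compactSpace_of_compactSpace i
  haveI : IsNoetherian Z := {}
  have hWc : Coh.IsCoh ((Coh.push j).obj (Coh.structureModule W)) := QCoh.isCoh_push_structure j
  have h1 := h W (j ≫ i) hdim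
  have h2 : iterD (List.replicate m L) (Curv2.euler k X) ((Coh.push (j ≫ i)).obj (Coh.structureModule W)) =
      iterD (List.replicate m L) (Curv2.euler k X)
        ((Coh.push i).obj ((Coh.push j).obj (Coh.structureModule W))) :=
    iterD_iso (additive_euler k) (inv_replicate hL m)
      ((Scheme.Modules.pushforwardComp j i).symm.app (Coh.structureModule W))
  rw [h2, iterD_push k i hi (inv_replicate hL m) hWc, List.map_replicate] at h1
  exact h1

theorem hd_push {Z : Scheme.{u}} [Z.Over (Spec (CommRingCat.of k))] [IsLocallyNoetherian Z] (i : Z ⟶ X)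
    [IsClosedImmersion i] (hi : i ≫ (X ↘ Spec (CommRingCat.of k)) = Z ↘ Spec (CommRingCat.of k))
    {L : X.Modules} (hL : PicF.IsInvertible L) {F : Z.Modules} (hF : Coh.IsCoh F) (q a : ℕ) :
    hd k L ((Coh.push i).obj F) q a = hd k ((Scheme.Modules.pullback i).obj L) F q a := by
  obtain ⟨e⟩ := VarInt.nonempty_push_tensor i F (InvX.isInvertible_tensorPow hL a)
  obtain ⟨p⟩ := VarInt.nonempty_pullback_tensorPow i L a
  have hq : Coh.IsQCoh (CohB1.tensorMod F (CohB1.tensorPow ((Scheme.Modules.pullback i).obj L) a)) :=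
    (AmpleVan.isCoh_tensor hF (AmpleVan.isCoh_invertible
      (InvX.isInvertible_tensorPow (PicClLib.isInvertible_pullback i hL) a))).1
  exact ((CurveCohLib.hhEquiv (k := k)
    (e ≪≫ (Coh.push i).mapIso (PicGrp.tensorModIso (Iso.refl F) p)) q).finrank_eq).trans
    (VarNef31.finrank_HH_push k i hi hq q).symm

variable (k) in
/-- The growth of the sections in the numerically trivial case. -/
def SmallSections (m e : ℕ) : Prop :=
  ∀ (X : Scheme.{u}) [X.Over (Spec (CommRingCat.of k))] [IsProper (X ↘ Spec (CommRingCat.of k))]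
    (H L : X.Modules), CohB1.IsAmple H → PicF.IsInvertible L → NefX k L → NumTriv k L m →
    ∀ F : X.Modules, Coh.IsCoh F → topologicalKrullDim ↥(CohB1.support F) < (e : WithBot ℕ∞) →
      GrowLt m (hd k L F 0)

/-- The integral case. -/
theorem smallSections_core [IsAlgClosed k] [IsIntegral X] {m e : ℕ} (IH : SmallSections.{u} k m e)
    (hme : m ≤ e) (hdim : topologicalKrullDim X = (e : WithBot ℕ∞)) {H L : X.Modules} (hH : CohB1.IsAmple H)
    (hL : PicF.IsInvertible L) (hnef : NefX k L) (hnt : NumTriv k L m) :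
    GrowLt m (hd k L (Coh.structureModule X) 0) := by
  haveI := CurveCohLib.isNoetherian_of_proper (k := k) (X := X)
  have hO := QCoh.isCoh_structureModule' (X := X)
  have hOd : topologicalKrullDim ↥(CohB1.support (Coh.structureModule X)) = (e : WithBot ℕ∞) := by
    rw [VarAmp.support_structureModule, (Homeomorph.Set.univ X).isHomeomorph.topologicalKrullDim_eq, hdim]
  let c : ℕ → ℤ := fun j =>
    iterD (List.replicate j L ++ List.replicate (e - j) H) (Curv2.euler k X) (Coh.structureModule X)
  have hc0 : 0 < c 0 := by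
    simpa [c, mult, lead] using (mult_nonneg_and_pos k hH e _ hO hOd.le).2 hOd
  have hcm : c m = 0 := mixed_zero hH hL hnt e m le_rfl hme _ hO hOd.le
  classical
  have hex : ∃ j, j ≤ m ∧ c j ≤ 0 := ⟨m, le_rfl, hcm.le⟩
  obtain ⟨hJm, hJ⟩ := Nat.find_spec hex
  obtain ⟨J, hJeq⟩ : ∃ J, Nat.find hex = J + 1 := Nat.exists_eq_succ_of_ne_zero fun h => by
    rw [h] at hJ; omega
  rw [hJeq] at hJ hJm
  have hJpos : 0 < c J := by
    have := Nat.find_min hex (show J < Nat.find hex by omega)
    push Not at this
    exact this (by omega)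
  set rest := List.replicate J L ++ List.replicate (e - (J + 1)) H with hrest
  have hb : Bin L H rest := bin_mixed L H J _
  have hinv : Inv rest := inv_of_bin hL hH.1 hb
  have hlen : rest.length + 1 = e := by simp [rest]; omega
  have hd' : DimLT (Coh.structureModule X) (rest.length + 2) :=
    hOd.le.trans_lt (by exact_mod_cast (show e < rest.length + 2 by omega))
  have hcJ : c J = iterD (H :: rest) (Curv2.euler k X) (Coh.structureModule X) := by
    refine iterD_perm (additive_euler k) ?_ (inv_of_bin hL hH.1 (bin_mixed L H J _)) _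
    rw [show e - J = e - (J + 1) + 1 by omega, List.replicate_succ]
    exact List.perm_middle
  have hcJ1 : c (J + 1) = iterD (L :: rest) (Curv2.euler k X) (Coh.structureModule X) := rfl
  obtain ⟨b, s, -, hb0, hs, -⟩ := exists_sections_at hH hH.1 (genericPoint X)
  have hHb := InvX.isInvertible_tensorPow hH.1 b
  obtain ⟨E, hE, hEH'⟩ := exists_inverse_pow k hH.1 b
  have hEH : PicF.cl E * PicF.cl (CohB1.tensorPow H b) = 1 := by rw [H23.PicMul.cl_tensorPow]; exact hEH'
  have hzero : ∀ a, hd k L E 0 a = 0 := fun a => by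
    by_contra hne
    have hN : PicF.IsInvertible (CohB1.tensorMod E (CohB1.tensorPow L a)) :=
      H23.PicMul.isInvertible_tensor hE (InvX.isInvertible_tensorPow hL a)
    haveI : Nontrivial (Coh.HH X (CohB1.tensorMod E (CohB1.tensorPow L a)) 0) :=
      Module.nontrivial_of_finrank_pos (R := k) (Nat.pos_of_ne_zero hne)
    obtain ⟨x, hx⟩ := exists_ne (0 : Coh.HH X (CohB1.tensorMod E (CohB1.tensorPow L a)) 0)
    let N := CohB1.tensorMod E (CohB1.tensorPow L a)
    let ev : Coh.HH X N 0 ≃+ Γ(N, ⊤) := Sheaf.H.equiv₀ (Coh.toAb N) isTerminalTop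
    obtain ⟨σ, hσ⟩ : ∃ σ : Γ(N, ⊤), σ ≠ 0 := ⟨ev x, fun h => hx (ev.map_eq_zero_iff.1 h)⟩
    have hgen := genericPoint_mem_genLocus hN hσ
    haveI := mono_mulHom' _ hgen (torFree_structure (X := X))
    have hC := QCoh.isCoh_cokernel hO.1 (AmpleVan.isCoh_tensor hO (AmpleVan.isCoh_invertible hN))
      (mulHom (InvX.ofSect σ) (Coh.structureModule X))
    have h2 : 0 ≤ iterD (N :: rest) (Curv2.euler k X) (Coh.structureModule X) := by
      rw [iterD_cons_mulHom (additive_euler k) hinv hN (InvX.ofSect σ) hO]
      refine nonnegIn k rest.length X H L hH hL hnef rest hb rfl _ hC (le_of_lt_succ ?_)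
      have := dim_support_lt hdim hC (notMem_support_cokernel' _ hgen)
      rwa [DimLT, ← hlen] at this
    rw [iterD_cons_add (additive_euler k) hinv hE (InvX.isInvertible_tensorPow hL a) hO hd',
      iterD_cons_pow (additive_euler k) hinv hL hO hd'] at h2
    have h3 : iterD (E :: rest) (Curv2.euler k X) (Coh.structureModule X) +
        (b : ℤ) * iterD (H :: rest) (Curv2.euler k X) (Coh.structureModule X) = 0 := by
      rw [← iterD_cons_pow (additive_euler k) hinv hH.1 hO hd' b,
        ← iterD_cons_add (additive_euler k) hinv hE hHb hO hd',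
        iterD_cons_congr (additive_euler k) hinv (H23.PicMul.cl_eq_iff.1
          (show PicF.cl (CohB1.tensorMod E (CohB1.tensorPow H b)) = PicF.cl (Coh.structureModule X) by
            rw [H23.PicMul.cl_tensor, hEH]; rfl)).some, iterD_cons_structure (additive_euler k) hinv]
    rw [← hcJ] at h3
    rw [← hcJ1] at h2
    have h4 : (0 : ℤ) < b := by exact_mod_cast hb0
    nlinarith [mul_pos h4 hJpos, mul_nonpos_of_nonneg_of_nonpos (Nat.cast_nonneg (α := ℤ) a) hJ]
  haveI := mono_mulHom' s hs (torFree_invertible hE)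
  have hEc := AmpleVan.isCoh_invertible hE
  have hP : Coh.IsCoh (CohB1.tensorMod E (CohB1.tensorPow H b)) :=
    AmpleVan.isCoh_tensor hEc (AmpleVan.isCoh_invertible hHb)
  have hC := QCoh.isCoh_cokernel hEc.1 hP (mulHom s E)
  have hS : (ShortComplex.mk (mulHom s E) (cokernel.π _) (cokernel.condition _)).ShortExact :=
    .mk' (ShortComplex.exact_of_g_is_cokernel _ (cokernelIsCokernel _)) ‹_› inferInstance
  refine (IH X H L hH hL hnef hnt _ hC (dim_support_lt hdim hC (notMem_support_cokernel' s hs))).mono
    fun a => ?_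
  have h1 := (twist_bounds k hL hS hEc hP hC 0 a).1
  have h2 : hd k L (CohB1.tensorMod E (CohB1.tensorPow H b)) 0 a = hd k L (Coh.structureModule X) 0 a :=
    hd_congr k (H23.PicMul.cl_eq_iff.1 (show PicF.cl (CohB1.tensorMod E (CohB1.tensorPow H b)) =
      PicF.cl (Coh.structureModule X) by rw [H23.PicMul.cl_tensor, hEH]; rfl)).some 0 a
  change hd k L (CohB1.tensorMod E (CohB1.tensorPow H b)) 0 a ≤ hd k L E 0 a + _ at h1
  rw [h2, hzero a, Nat.zero_add] at h1
  exact h1

variable (k) in
/-- Sections grow like `a^(m-1)` when `L^m` is numerically trivial. -/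
theorem smallSections [IsAlgClosed k] (m : ℕ) : ∀ e, SmallSections.{u} k m e
  | 0 => fun X _ _ H L _ hL _ _ F hF hFd => by
    exact small_of_support k hL hF (hFd.trans_le (by exact_mod_cast Nat.zero_le m)) 0
  | e + 1 => by
    intro X _ _ H L hH hL hnef hnt F hF hFd
    haveI := CurveCohLib.isNoetherian_of_proper (k := k) (X := X)
    by_cases hme : m ≤ e
    swap
    · exact small_of_support k hL hF (hFd.trans_le (by exact_mod_cast (show e + 1 ≤ m by omega))) 0
    refine devissage_pieces (fun M => GrowLt m (hd k L M 0)) (fun φ h => h.mono fun a => (hd_congr k φ 0 a).ge)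
      (fun {A} hA => (growLt_zero m).mono fun a => by
        haveI := Euler.subsingleton_HH_of_isZero (M := (AmpleVan.tw (CohB1.tensorPow L a)).obj A)
          ((AmpleVan.tw (CohB1.tensorPow L a)).map_isZero hA) 0
        exact (Module.finrank_zero_of_subsingleton (R := k)
          (M := Coh.HH X ((AmpleVan.tw (CohB1.tensorPow L a)).obj A) 0)).le)
      (fun S hS h₁ h₂ h₃ a c => (a.add c).mono fun q => (twist_bounds k hL hS h₁ h₂ h₃ 0 q).1)
      (T := CohB1.support F) (fun Z i _ _ I ι _ hI hI0 hsub => ?_) hF subset_rfl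
    have hdξ : topologicalKrullDim ↥(closure ({i (genericPoint Z)} : Set X)) ≤ (e : WithBot ℕ∞) :=
      le_of_lt_succ ((H23.TopDim.dim_le_dim_of_subset hsub).trans_lt hFd)
    rcases hdξ.lt_or_eq with hlt | heq
    · exact smallSections m e X H L hH hL hnef hnt _ (QCoh.isCoh_push i hI)
        (by rw [QCoh.support_push_ideal i ι hI.1 hI0]; exact hlt)
    obtain ⟨S, hS, e₁, e₂, h₁, h₂, h₃, -⟩ := exists_piece_quot i ι hI hI0 hdξ
    letI : Z.Over (Spec (CommRingCat.of k)) := ⟨i ≫ (X ↘ Spec (CommRingCat.of k))⟩
    haveI : IsProper (Z ↘ Spec (CommRingCat.of k)) :=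
      (inferInstance : IsProper (i ≫ (X ↘ Spec (CommRingCat.of k))))
    haveI := CurveCohLib.isNoetherian_of_proper (k := k) (X := Z)
    refine (smallSections_core (smallSections m e) hme ((dim_eq_closure i).trans heq)
      (AmpleVan.isAmple_pullback_of_isEmbedding i i.isClosedEmbedding.isEmbedding hH)
      (PicClLib.isInvertible_pullback i hL) (nefX_pullback i rfl hL hnef) (numTriv_pullback i rfl hL hnt)).mono
      fun a => ?_
    have hb := (twist_bounds k hL hS h₁ h₂ h₃ 0 a).2.1
    rw [e₁, e₂, hd_push i rfl hL QCoh.isCoh_structureModule'] at hb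
    exact hb

/-- Growth of order `< m` excludes growth of order `m` along a progression. -/
theorem not_growth_of_growLt {m : ℕ} {f : ℕ → ℕ} {ν a : ℕ} (hν : 0 < ν) (hf : GrowLt m f)
    (hg : ∀ μ, 1 ≤ μ → μ ^ m ≤ a * f (ν * μ)) : False := by
  rcases m with _ | n
  · have h1 := hg 1 le_rfl
    rw [hf (ν * 1), mul_zero, pow_zero] at h1
    omega
  obtain ⟨C, hC⟩ := hf
  obtain ⟨μ, hμ1, hμ⟩ : ∃ μ, 1 ≤ μ ∧ a * (C * (2 * ν) ^ n) < μ := ⟨a * (C * (2 * ν) ^ n) + 1, by omega, by omega⟩
  have h1 := (hg μ hμ1).trans (Nat.mul_le_mul_left a (hC _))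
  have h2 : (ν * μ + 1) ^ n ≤ (2 * ν) ^ n * μ ^ n := by
    rw [← mul_pow]; exact Nat.pow_le_pow_left (by nlinarith) n
  have h3 : μ ^ (n + 1) ≤ a * (C * (2 * ν) ^ n) * μ ^ n :=
    h1.trans (le_of_le_of_eq (Nat.mul_le_mul_left a (Nat.mul_le_mul_left C h2)) (by ring))
  rw [pow_succ, mul_comm] at h3
  exact absurd (Nat.le_of_mul_le_mul_right h3 (pow_pos (by omega) n)) (by omega)

end Groth.Agent.Posit43
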