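import Groth.Agent.Posit43.Sections
import Groth.Agent.VarAmp.Integral
import Groth.Agent.FFun.Basic
import Groth.Agent.AmpleX.SemiAmple
import Groth.Agent.CurveCohLib.Skyscraper
import Groth.Agent.AmpleVan.Uniform
import Mathlib.LinearAlgebra.Eigenspace.Triangularizable

/-!
# The pencil trick

Let `X` be integral, `N` invertible with two independent sections. If twists by `N` kill the higher
cohomology of all coherent modules supported away from the generic point, they kill it for modules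
without sections supported away from the generic point.
-/

set_option linter.style.haveILetI false
set_option linter.unusedSectionVars false
set_option backward.isDefEq.respectTransparency false
set_option backward.isDefEq.respectTransparency.types false

universe u

open CategoryTheory CategoryTheory.Limits AlgebraicGeometry TopologicalSpace Opposite
open Groth.Agent.PnCoh.Finite (mapLin deltaLin)

attribute [local instance] HasDerivedCategory.standard

noncomputable section

namespace Groth.Agent.Posit43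

open Groth.Agent

/-- Commuting systems `S m, T m` with `S m` bijective and every `T m - c • S m` eventually surjective
start at zero. -/
theorem subsingleton_of_pencil {k : Type*} [Field k] [IsAlgClosed k] (V : ℕ → Type*)
    [∀ m, AddCommGroup (V m)] [∀ m, Module k (V m)] [∀ m, FiniteDimensional k (V m)]
    (S T : ∀ m, V m →ₗ[k] V (m + 1)) (hS : ∀ m, Function.Bijective (S m))
    (hcomm : ∀ m x, T (m + 1) (S m x) = S (m + 1) (T m x))
    (hu : ∀ c : k, ∃ m₀, ∀ m, m₀ ≤ m → Function.Surjective (T m - c • S m)) :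
    Subsingleton (V 0) := by
  rw [← not_nontrivial_iff_subsingleton]
  intro hne
  let e₀ := LinearEquiv.ofBijective (S 0) (hS 0)
  obtain ⟨c, hc⟩ := Module.End.exists_eigenvalue (e₀.symm.toLinearMap.comp (T 0))
  obtain ⟨v, hv, hv0⟩ := hc.exists_hasEigenvector
  rw [Module.End.mem_eigenspace_iff] at hv
  have hT0 : T 0 v = c • S 0 v := by
    have := congrArg e₀ hv
    simpa [e₀] using this
  have key : ∀ m, ∃ w : V m, w ≠ 0 ∧ (T m - c • S m) w = 0 := by
    intro m
    induction m with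
    | zero => exact ⟨v, hv0, by rw [LinearMap.sub_apply, LinearMap.smul_apply, hT0, sub_self]⟩
    | succ m ih =>
      obtain ⟨w, hw, hw'⟩ := ih
      refine ⟨S m w, fun h => hw ((hS m).1 (h.trans (map_zero _).symm)), ?_⟩
      rw [LinearMap.sub_apply, LinearMap.smul_apply, sub_eq_zero] at hw'
      rw [LinearMap.sub_apply, LinearMap.smul_apply, hcomm, hw', map_smul, sub_self]
  obtain ⟨m₀, hm₀⟩ := hu c
  obtain ⟨w, hw, hw'⟩ := key m₀
  have hdim : Module.finrank k (V m₀) = Module.finrank k (V (m₀ + 1)) :=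
    (LinearEquiv.ofBijective (S m₀) (hS m₀)).finrank_eq
  exact hw ((LinearMap.injective_iff_surjective_of_finrank_eq_finrank hdim).2 (hm₀ m₀ le_rfl)
    (hw'.trans (map_zero _).symm))

variable {X : Scheme.{u}}

/-- No nonzero sections are supported away from the point. -/
def TorFree (η : X) (M : X.Modules) : Prop :=
  ∀ U : X.Opens, η ∈ U → Mono (HilbPoly.resUnit U M)

theorem torFree_tensor {η : X} {M N : X.Modules} (hN : PicF.IsInvertible N) (h : TorFree η M) :
    TorFree η (CohB1.tensorMod M N) := fun U hU =>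
  haveI := h U hU
  HilbPoly.mono_resUnit_tensor hN

theorem torFree_itw {η : X} {M N : X.Modules} (hN : PicF.IsInvertible N) (h : TorFree η M) :
    ∀ m, TorFree η ((AmpleVan.itw N m).obj M)
  | 0 => h
  | m + 1 => torFree_tensor hN (torFree_itw hN h m)

theorem torFree_of_iso {η : X} {M M' : X.Modules} (e : M ≅ M') (h : TorFree η M) : TorFree η M' :=
  fun U hU => haveI := h U hU; mono_resUnit_of_mono e.inv

section Integral

variable [IsIntegral X]

/-- A nonzero global section generates at the generic point. -/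
theorem genericPoint_mem_genLocus {N : X.Modules} (hN : PicF.IsInvertible N) {σ : Γ(N, ⊤)} (h : σ ≠ 0) :
    genericPoint X ∈ CohB1.genLocus N (InvX.ofSect σ) := by
  have hne : AmpleX.locus σ ≠ ⊥ := fun h' => h (AmpleX.eq_zero_of_locus_eq_bot hN σ h')
  obtain ⟨x, hx⟩ := (Opens.ne_bot_iff_nonempty _).1 hne
  have hη := (genericPoint_specializes x).mem_open (AmpleX.locus σ).2 hx
  obtain ⟨V, ⟨hV, hVf⟩, hηV⟩ := Opens.mem_sSup.1 hη
  exact InvX.le_genLocus _ (by rw [InvX.one_ofSect]; exact hVf) hηV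

theorem mono_mulSec {N M : X.Modules} (hN : PicF.IsInvertible N) {σ : Γ(N, ⊤)} (h : σ ≠ 0)
    (hM : TorFree (genericPoint X) M) : Mono (AmpleVan.mulSec σ M) := by
  rw [← InvX.one_ofSect σ, ← mulHom_eq_mulSec]
  obtain ⟨U, hηU, hU⟩ := InvX.mem_genLocus (genericPoint_mem_genLocus hN h)
  haveI := (InvX.isIso_restrict_iff (InvX.ofSect σ) U).2 hU
  haveI := hM U hηU
  haveI := HilbPoly.isIso_restrict_mulHom (InvX.ofSect σ) M (U := U)
  exact mono_of_isIso_restrict (U := U) _

theorem notMem_support_cokernel {N M : X.Modules} (hN : PicF.IsInvertible N) {σ : Γ(N, ⊤)} (h : σ ≠ 0) :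
    genericPoint X ∉ CohB1.support (cokernel (AmpleVan.mulSec σ M)) := by
  rw [← InvX.one_ofSect σ, ← mulHom_eq_mulSec]
  obtain ⟨U, hηU, hU⟩ := InvX.mem_genLocus (genericPoint_mem_genLocus hN h)
  haveI := (InvX.isIso_restrict_iff (InvX.ofSect σ) U).2 hU
  haveI := HilbPoly.isIso_restrict_mulHom (InvX.ofSect σ) M (U := U)
  exact HilbPoly.notMem_support_of_isZero_restrict (HilbPoly.isZero_restrict_cokernel U _) hηU

variable (k : Type u) [Field k] [X.Over (Spec (CommRingCat.of k))]

/-- Twists by `N` eventually kill the higher cohomology. -/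
def VanI (N M : X.Modules) : Prop :=
  ∃ m₀, ∀ m, m₀ ≤ m → ∀ p : ℕ, 0 < p → Subsingleton (Coh.HH X ((AmpleVan.itw N m).obj M) p)

theorem cokernel_mulSec_iso {N : X.Modules} (hN : PicF.IsInvertible N) (σ : Γ(N, ⊤)) (M : X.Modules) :
    ∀ m, Nonempty (cokernel (AmpleVan.mulSec σ ((AmpleVan.itw N m).obj M)) ≅
      (AmpleVan.itw N m).obj (cokernel (AmpleVan.mulSec σ M)))
  | 0 => ⟨Iso.refl _⟩
  | m + 1 => by
    obtain ⟨e⟩ := cokernel_mulSec_iso hN σ M m
    haveI := AmpleVan.isEquivalence_tw hN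
    let W := (AmpleVan.itw N m).obj M
    change Nonempty (cokernel (AmpleVan.mulSec σ ((AmpleVan.tw N).obj W)) ≅
      (AmpleVan.tw N).obj ((AmpleVan.itw N m).obj (cokernel (AmpleVan.mulSec σ M))))
    let e' : (AmpleVan.tw N).obj (cokernel (AmpleVan.mulSec σ W)) ≅
        cokernel (AmpleVan.mulSec σ ((AmpleVan.tw N).obj W)) :=
      PreservesCokernel.iso (AmpleVan.tw N) (AmpleVan.mulSec σ W) ≪≫
        cokernelIsoOfEq (AmpleVan.tw_map_mulSec hN σ W)
    exact ⟨e'.symm ≪≫ (AmpleVan.tw N).mapIso e⟩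

theorem mulSec_sub_smul {N : X.Modules} (σ τ : Γ(N, ⊤)) (c : k) (M : X.Modules) :
    AmpleVan.mulSec (τ - (show Γ(X, ⊤) from Coh.toGlobal (X ↘ Spec (CommRingCat.of k)) c) • σ) M =
      AmpleVan.mulSec τ M - AmpleVan.mulSec σ M ≫ Formal.smulMod k ((AmpleVan.tw N).obj M) c := by
  refine QCoh.hom_ext_app fun U t => ?_
  show InvX.tmul t (AModX.res N le_top (τ - _ • σ)) = InvX.tmul t (AModX.res N le_top τ) -
    AModX.resR (le_top : U ≤ ⊤) (Coh.toGlobal (X ↘ Spec (CommRingCat.of k)) c) •
      InvX.tmul t (AModX.res N le_top σ)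
  rw [map_sub, AModX.res_smul, sub_eq_add_neg, ← neg_smul]
  refine (?_ : _ = _ + _).trans (sub_eq_add_neg _ _).symm
  rw [← neg_smul, ← InvX.tmul_smul_right]
  exact tmul_add_right _ _ _
where
  tmul_add_right {U : X.Opens} {M N : X.Modules} (a : Γ(M, U)) (b b' : Γ(N, U)) :
      InvX.tmul a (b + b') = InvX.tmul a b + InvX.tmul a b' :=
    (congrArg _ (KFlatLib.tm_add_right a b b')).trans (map_add _ _ _)

variable [IsProper (X ↘ Spec (CommRingCat.of k))]

theorem mapLin_sub_comp {A B C : X.Modules} (f : A ⟶ C) (g : A ⟶ B) (h : B ⟶ C) (p : ℕ)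
    (x : Coh.HH X A p) :
    mapLin k (f - g ≫ h) p x = mapLin k f p x - mapLin k h p (mapLin k g p x) := by
  rw [eq_sub_iff_add_eq]
  show Sheaf.H.map _ p x + Sheaf.H.map _ p (Sheaf.H.map _ p x) = Sheaf.H.map _ p x
  rw [← Sheaf.H.map_comp_apply, ← Functor.map_comp, ← Sheaf.H.map_add_apply, ← Functor.map_add,
    sub_add_cancel]

include k in
/-- **The pencil trick.** -/
theorem vanI_of_pencil [IsAlgClosed k] {N : X.Modules} (hN : PicF.IsInvertible N) {σ τ : Γ(N, ⊤)}
    (hσ : σ ≠ 0)
    (hind : ∀ c : k, τ - (show Γ(X, ⊤) from Coh.toGlobal (X ↘ Spec (CommRingCat.of k)) c) • σ ≠ 0)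
    (IH : ∀ C : X.Modules, Coh.IsCoh C → genericPoint X ∉ CohB1.support C → VanI N C)
    {M : X.Modules} (hM : Coh.IsCoh M) (hT : TorFree (genericPoint X) M) : VanI N M := by
  haveI := CurveCohLib.isNoetherian_of_proper (k := k) (X := X)
  let W : ℕ → X.Modules := fun m => (AmpleVan.itw N m).obj M
  have hW : ∀ m, Coh.IsCoh (W m) := fun m => AmpleVan.isCoh_itw hN hM m
  have hfin : ∀ m p, Module.Finite k (Coh.HH X (W m) p) := fun m p => S0002.result k X (W m) (hW m) p
  -- multiplication by a nonzero section is eventually surjective in positive degrees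
  have hsurj : ∀ u : Γ(N, ⊤), u ≠ 0 → ∃ m₀, ∀ m, m₀ ≤ m → ∀ p : ℕ, 0 < p →
      Function.Surjective (mapLin k (AmpleVan.mulSec u (W m)) p) := by
    intro u hu
    have hC : Coh.IsCoh (cokernel (AmpleVan.mulSec u M)) :=
      QCoh.isCoh_cokernel hM.1 (AmpleVan.isCoh_itw hN hM 1) _
    obtain ⟨m₀, hm₀⟩ := IH _ hC (notMem_support_cokernel hN hu)
    refine ⟨m₀, fun m hm p hp => ?_⟩
    haveI := mono_mulSec hN hu (torFree_itw hN hT m)
    obtain ⟨e⟩ := cokernel_mulSec_iso hN u M m
    have hS : (ShortComplex.mk (AmpleVan.mulSec u (W m)) (cokernel.π _) (cokernel.condition _)).ShortExact :=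
      .mk' (ShortComplex.exact_of_g_is_cokernel _ (cokernelIsCokernel _)) ‹_› inferInstance
    haveI : Subsingleton (Coh.HH X (cokernel (AmpleVan.mulSec u (W m))) p) :=
      QCoh.subsingleton_HH_of_iso e.symm _ (hm₀ m hm p hp)
    refine LinearMap.range_eq_top.1 ?_
    rw [Euler.range_mapLin_f k hS p]
    exact LinearMap.ker_eq_top.2 (LinearMap.ext fun x => Subsingleton.elim _ _)
  obtain ⟨B, hB⟩ := Euler.exists_bound (X := X) k
  have hp : ∀ p : ℕ, ∃ m₀, ∀ m, m₀ ≤ m → 0 < p → Subsingleton (Coh.HH X (W m) p) := by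
    intro p
    rcases Nat.eq_zero_or_pos p with rfl | hp
    · exact ⟨0, fun _ _ h => absurd h (lt_irrefl 0)⟩
    obtain ⟨m₁, hm₁⟩ := hsurj σ hσ
    let f : ℕ → ℕ := fun m => Module.finrank k (Coh.HH X (W m) p)
    have hdec : ∀ m, m₁ ≤ m → f (m + 1) ≤ f m := fun m hm => by
      haveI := hfin m p
      exact LinearMap.finrank_le_finrank_of_surjective (hm₁ m hm p hp)
    have hstab : ∃ m₂, m₁ ≤ m₂ ∧ ∀ m, m₂ ≤ m → f (m + 1) = f m := by
      classical
      have hex : ∃ v, ∃ m, m₁ ≤ m ∧ f m = v := ⟨_, m₁, le_rfl, rfl⟩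
      obtain ⟨m₂, hm₂, hv⟩ := Nat.find_spec hex
      have hmin : ∀ m, m₁ ≤ m → f m₂ ≤ f m := fun m hm =>
        hv.le.trans (Nat.find_le ⟨m, hm, rfl⟩)
      have hle : ∀ m, m₂ ≤ m → f m ≤ f m₂ := fun m hm => by
        induction m, hm using Nat.le_induction with
        | base => exact le_rfl
        | succ m hm ih => exact (hdec m (hm₂.trans hm)).trans ih
      refine ⟨m₂, hm₂, fun m hm => ?_⟩
      have := hmin m (hm₂.trans hm); have := hmin (m + 1) (by omega)
      have := hle m hm; have := hle (m + 1) (by omega)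
      omega
    obtain ⟨m₂, hm₂, hst⟩ := hstab
    refine ⟨m₂, fun m₃ hm₃ _ => ?_⟩
    haveI := fun j => hfin (m₃ + j) p
    refine subsingleton_of_pencil (k := k) (fun j => Coh.HH X (W (m₃ + j)) p)
      (fun j => mapLin k (AmpleVan.mulSec σ (W (m₃ + j))) p)
      (fun j => mapLin k (AmpleVan.mulSec τ (W (m₃ + j))) p) (fun j => ?_) (fun j x => ?_) fun c => ?_
    · haveI := hfin (m₃ + j + 1) p
      have hs := hm₁ (m₃ + j) (by omega) p hp
      exact ⟨(LinearMap.injective_iff_surjective_of_finrank_eq_finrank (hst (m₃ + j) (by omega)).symm).2 hs, hs⟩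
    · refine PnCoh.Finite.map_map_eq (Y := X.toPresheafedSpace.carrier) ?_ p x
      rw [← Functor.map_comp, ← Functor.map_comp]
      refine congrArg _ ?_
      exact (AmpleVan.mulSec_naturality τ (AmpleVan.mulSec σ (W (m₃ + j)))).trans
        (congrArg (AmpleVan.mulSec τ (W (m₃ + j)) ≫ ·) (AmpleVan.tw_map_mulSec hN σ (W (m₃ + j))))
    · obtain ⟨m₄, hm₄⟩ := hsurj _ (hind c)
      refine ⟨m₄, fun j hj => ?_⟩
      have h := hm₄ (m₃ + j) (by omega) p hp
      rw [mulSec_sub_smul] at h
      refine fun y => (h y).imp fun x hx => ?_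
      show mapLin k (AmpleVan.mulSec τ (W (m₃ + j))) p x -
        mapLin k (Formal.smulMod k ((AmpleVan.tw N).obj (W (m₃ + j))) c) p
          (mapLin k (AmpleVan.mulSec σ (W (m₃ + j))) p x) = y
      rw [← mapLin_sub_comp]
      exact hx
  choose m₀ hm₀ using hp
  refine ⟨(Finset.range B).sup m₀, fun m hm p hp' => ?_⟩
  rcases Nat.lt_or_ge p B with h | h
  · exact hm₀ p m ((Finset.le_sup (Finset.mem_range.2 h)).trans hm) hp'
  · exact hB _ (hW m).1 p h

end Integral

end Groth.Agent.Posit43
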