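import Groth.Agent.Posit43.Iter
import Groth.Agent.AmpleX.Basis
import Groth.Agent.AmpleVan.Pull
import Groth.Agent.AmpleVan.Iter

/-!
# Sections of twists of an ample module and dévissage by pieces

Multiplication by a section not vanishing at the generic point of a piece is injective on the piece,
and its cokernel has smaller support.
-/

set_option linter.style.haveILetI false
set_option linter.unusedSectionVars false
set_option backward.isDefEq.respectTransparency false
set_option backward.isDefEq.respectTransparency.types false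

universe u

open CategoryTheory CategoryTheory.Limits AlgebraicGeometry TopologicalSpace Opposite MonoidalCategory
open scoped Groth.Agent.H23.PicMul

attribute [local instance] HasDerivedCategory.standard

noncomputable section

namespace Groth.Agent.Posit43

open Groth.Agent HilbPoly

variable {X : Scheme.{u}}

/-- Twists by large powers of an ample module have sections not vanishing at a given point. -/
theorem exists_sections_at {H N : X.Modules} (hH : CohB1.IsAmple H) (hN : PicF.IsInvertible N) (x : X) :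
    ∃ (b : ℕ) (s : Coh.structureModule X ⟶ CohB1.tensorPow H b)
      (t : Coh.structureModule X ⟶ CohB1.tensorMod N (CohB1.tensorPow H b)),
      0 < b ∧ x ∈ CohB1.genLocus _ s ∧ x ∈ CohB1.genLocus _ t := by
  haveI := AmpleX.isSeparated_of_isAmple hH
  obtain ⟨hHi, hc, -⟩ := AmpleX.isAmple_iff.1 hH
  haveI := hc
  obtain ⟨U, hxU, e, he⟩ := InvX.exists_frame hN x
  obtain ⟨m, hm, s, hxs, hle, -⟩ := AmpleX.exists_genLocus_le hH hxU
  have hP := InvX.isInvertible_tensorPow hHi m
  obtain ⟨n₀, hn₀⟩ := AmpleX.exists_extend (M := N)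
    (QCoh.isQCoh_of_isFinLocFree (H23.PullPush.isFinLocFree_of_isInvertible hN)) hP s (AModX.res N hle e)
  obtain ⟨T, hT⟩ := hn₀ (n₀ + 1) (Nat.le_succ _)
  have hfr : InvX.IsFrame (AModX.res (CohB1.tensorMod N (CohB1.tensorPow (CohB1.tensorPow H m) (n₀ + 1))) (le_top : CohB1.genLocus _ s ≤ ⊤)
      (InvX.one (InvX.ofSect T))) := by
    rw [InvX.one_ofSect, hT]
    refine InvX.isFrame_tmul (he.res hle) (AmpleX.isFrame_powElt ?_ (n₀ + 1))
    refine InvX.isFrame_of_germ fun y hy => ?_
    obtain ⟨W, hyW, hW⟩ := InvX.mem_genLocus hy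
    have := hW.germ_bijective hyW
    rw [InvX.germ_res'] at this ⊢
    exact this
  have hxT : x ∈ CohB1.genLocus _ (InvX.ofSect T) := InvX.le_genLocus _ hfr hxs
  have hb : PicF.cl (CohB1.tensorPow (CohB1.tensorPow H m) (n₀ + 1)) =
      PicF.cl (CohB1.tensorPow H (m * (n₀ + 1))) := by
    rw [H23.PicMul.cl_tensorPow, H23.PicMul.cl_tensorPow, H23.PicMul.cl_tensorPow, ← pow_mul]
  obtain ⟨s', hs'⟩ := AmpleX.exists_section_of_cl_eq hb (InvX.powHom s (n₀ + 1))
  obtain ⟨t, ht⟩ := AmpleX.exists_section_of_cl_eq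
    (B := CohB1.tensorMod N (CohB1.tensorPow H (m * (n₀ + 1))))
    (by rw [H23.PicMul.cl_tensor, H23.PicMul.cl_tensor, hb]) (InvX.ofSect T)
  refine ⟨m * (n₀ + 1), s', t, Nat.mul_pos hm n₀.succ_pos, ?_, ht ▸ hxT⟩
  rw [hs', InvX.genLocus_powHom hP]
  exact hxs
/-- An iso over an open and a module without sections supported off it give a monomorphism. -/
theorem mono_of_isIso_restrict {U : X.Opens} {M M' : X.Modules} (f : M ⟶ M')
    [Mono (resUnit U M)] [IsIso ((Scheme.Modules.restrictFunctor U.ι).map f)] : Mono f := by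
  have h : f ≫ resUnit U M' = resUnit U M ≫
      (Scheme.Modules.pushforward U.ι).map ((Scheme.Modules.restrictFunctor U.ι).map f) :=
    (Scheme.Modules.restrictAdjunction U.ι).unit.naturality f
  haveI : Mono (f ≫ resUnit U M') := by rw [h]; exact mono_comp _ _
  exact mono_of_mono f (resUnit U M')

theorem mono_resUnit_of_mono {U : X.Opens} {M M' : X.Modules} (f : M ⟶ M') [Mono f]
    [Mono (resUnit U M')] : Mono (resUnit U M) := by
  have h : f ≫ resUnit U M' = resUnit U M ≫
      (Scheme.Modules.pushforward U.ι).map ((Scheme.Modules.restrictFunctor U.ι).map f) :=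
    (Scheme.Modules.restrictAdjunction U.ι).unit.naturality f
  haveI : Mono (resUnit U M ≫
      (Scheme.Modules.pushforward U.ι).map ((Scheme.Modules.restrictFunctor U.ι).map f)) := by
    rw [← h]; exact mono_comp _ _
  exact mono_of_mono _ ((Scheme.Modules.pushforward U.ι).map ((Scheme.Modules.restrictFunctor U.ι).map f))

open AmpleVan in
/-- The two forms of multiplication by a section agree. -/
theorem mulHom_eq_mulSec {N : X.Modules} (s : Coh.structureModule X ⟶ N) (M : X.Modules) :
    mulHom s M = mulSec (InvX.one s) M := by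
  refine QCoh.hom_ext_app fun U t => ?_
  show (((DCoh.tensorBi (X := X)).obj M).map s).app U ((twUnit.inv.app M).app U t) = _
  rw [AmpleVan.unit_inv_app]
  refine Eq.trans ?_ (mulSec_app _ M U t).symm
  have h := KFlatLib.unitShP_naturality (DCoh.toP.obj M ◁ DCoh.toP.map s)
  refine (congr(($h).app (op U) (KFlatLib.tm t (show Γ(Coh.structureModule X, U) from (1 : Γ(X, U)))))).symm.trans ?_
  show InvX.tmul t (s.app U (show Γ(Coh.structureModule X, U) from (1 : Γ(X, U)))) = _
  rw [InvX.app_eq_smul, one_smul]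

variable [IsNoetherian X]

/-- Dévissage by pieces inside the support. -/
theorem devissage_pieces (P : X.Modules → Prop) (hiso : ∀ {A B : X.Modules}, (A ≅ B) → P A → P B)
    (hzero : ∀ {A : X.Modules}, IsZero A → P A)
    (hext : ∀ S : ShortComplex X.Modules, S.ShortExact → Coh.IsCoh S.X₁ → Coh.IsCoh S.X₂ →
      Coh.IsCoh S.X₃ → P S.X₁ → P S.X₃ → P S.X₂)
    {T : Set X} (hpiece : ∀ (Z : Scheme.{u}) (i : Z ⟶ X) [IsClosedImmersion i] [IsIntegral Z]
      (I : Z.Modules) (ι : I ⟶ Coh.structureModule Z) [Mono ι], Coh.IsCoh I → ¬ IsZero I →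
      closure {i (genericPoint Z)} ⊆ T → P ((Coh.push i).obj I))
    {M : X.Modules} (hM : Coh.IsCoh M) (hT : CohB1.support M ⊆ T) : P M := by
  induction QCoh.filt_of_isCoh hM with
  | @zero N h => exact hzero h
  | @step N M' φ _ _ hNc hMc hex ih =>
    obtain ⟨Z, i, hi, hZ, I, ι, hι, hI, hI0, ⟨e⟩⟩ := hex
    haveI := hi; haveI := hZ; haveI := hι
    have hc := QCoh.isCoh_cokernel hNc.1 hMc φ
    have hIc : Coh.IsCoh ((Coh.push i).obj I) :=
      QCoh.isCoh_of_mono (e.inv) hc (QCoh.isQCoh_pushforward i hI)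
    have hIc' : Coh.IsCoh I := by
      haveI : IsLocallyNoetherian Z := LocallyOfFiniteType.isLocallyNoetherian i
      exact QCoh.isCoh_of_mono ι QCoh.isCoh_structureModule' hI
    refine hext (ShortComplex.mk φ (cokernel.π φ) (cokernel.condition φ))
      (.mk' (ShortComplex.exact_of_g_is_cokernel _ (cokernelIsCokernel φ)) ‹_› inferInstance)
      hNc hMc hc (ih hNc ((QCoh.mem_support_of_mono hNc.1 hMc.1 φ).trans hT)) (hiso e.symm ?_)
    refine hpiece Z i I ι hIc' hI0 ?_
    rw [← QCoh.support_push_ideal i ι hI hI0, ← QCoh.support_iso e hc.1]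
    exact (QCoh.support_of_epi hMc.1 hc.1 (cokernel.π φ)).trans hT

section Piece

variable {Z : Scheme.{u}} (i : Z ⟶ X) [IsClosedImmersion i] [IsIntegral Z]
  {I : Z.Modules} (ι : I ⟶ Coh.structureModule Z) [Mono ι]

theorem isCoh_push_piece (hI : Coh.IsCoh I) : Coh.IsCoh ((Coh.push i).obj I) := QCoh.isCoh_push i hI

include ι in
/-- Multiplication by a section not vanishing at the generic point is injective. -/
theorem mono_mulHom_piece {N : X.Modules} (s : Coh.structureModule X ⟶ N)
    (hs : i (genericPoint Z) ∈ CohB1.genLocus N s) : Mono (mulHom s ((Coh.push i).obj I)) := by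
  obtain ⟨U, hξU, hU⟩ := InvX.mem_genLocus hs
  haveI := (InvX.isIso_restrict_iff s U).2 hU
  haveI := mono_resUnit_push i hξU
  haveI : Mono ((Coh.push i).map ι) := Functor.map_mono _ ι
  haveI := mono_resUnit_of_mono (U := U) ((Coh.push i).map ι)
  haveI := isIso_restrict_mulHom s ((Coh.push i).obj I) (U := U)
  exact mono_of_isIso_restrict (U := U) _

include ι in
/-- The cokernel of multiplication by such a section has smaller support. -/
theorem dimLT_cokernel_piece {N : X.Modules} (hN : PicF.IsInvertible N)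
    (s : Coh.structureModule X ⟶ N) (hs : i (genericPoint Z) ∈ CohB1.genLocus N s)
    (hI : Coh.IsCoh I) {d : ℕ}
    (hd : topologicalKrullDim ↥(closure ({i (genericPoint Z)} : Set X)) ≤ (d : WithBot ℕ∞)) :
    DimLT (cokernel (mulHom s ((Coh.push i).obj I))) d := by
  obtain ⟨U, hξU, hU⟩ := InvX.mem_genLocus hs
  haveI := (InvX.isIso_restrict_iff s U).2 hU
  haveI := isIso_restrict_mulHom s ((Coh.push i).obj I) (U := U)
  have hM := isCoh_push_piece i hI
  have hP : Coh.IsCoh (CohB1.tensorMod ((Coh.push i).obj I) N) :=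
    AmpleVan.isCoh_tensor hM (AmpleVan.isCoh_invertible hN)
  have hC := QCoh.isCoh_cokernel hM.1 hP (mulHom s ((Coh.push i).obj I))
  refine dim_lt_closure hd (QCoh.isClosed_support_of_isFT hC.1 hC.2) ?_
    (notMem_support_of_isZero_restrict (isZero_restrict_cokernel U _) hξU)
  exact ((QCoh.support_of_epi hP.1 hC.1 (cokernel.π _)).trans (support_tensor_subset _ _)).trans
    ((QCoh.support_push_subset i hI.1).trans (QCoh.range_eq_closure i).le)

include ι in
/-- A piece differs from the structure sheaf of its subscheme by a module with smaller support. -/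
theorem exists_piece_quot (hI : Coh.IsCoh I) (hI0 : ¬ IsZero I) {d : ℕ}
    (hd : topologicalKrullDim ↥(closure ({i (genericPoint Z)} : Set X)) ≤ (d : WithBot ℕ∞)) :
    ∃ S : ShortComplex X.Modules, S.ShortExact ∧ S.X₁ = (Coh.push i).obj I ∧
      S.X₂ = (Coh.push i).obj (Coh.structureModule Z) ∧
      Coh.IsCoh S.X₁ ∧ Coh.IsCoh S.X₂ ∧ Coh.IsCoh S.X₃ ∧ DimLT S.X₃ d := by
  haveI : Mono ((Coh.push i).map ι) := Functor.map_mono _ ι
  have hO : Coh.IsCoh ((Coh.push i).obj (Coh.structureModule Z)) := QCoh.isCoh_push_structure i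
  have hIc := isCoh_push_piece i hI
  have hK := QCoh.isCoh_cokernel hIc.1 hO ((Coh.push i).map ι)
  refine ⟨ShortComplex.mk ((Coh.push i).map ι) (cokernel.π _) (cokernel.condition _),
    .mk' (ShortComplex.exact_of_g_is_cokernel _ (cokernelIsCokernel _)) ‹_› inferInstance, rfl, rfl,
    hIc, hO, hK, ?_⟩
  exact dim_lt_closure hd (QCoh.isClosed_support_of_isFT hK.1 hK.2)
    ((QCoh.support_of_epi hO.1 hK.1 (cokernel.π _)).trans
      ((QCoh.support_push_subset i QCoh.isQCoh_structureModule).trans (QCoh.range_eq_closure i).le))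
    (QCoh.mem_support_push_ideal i ι hI.1 hI0).2

end Piece

end Groth.Agent.Posit43
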