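import Groth.Agent.Posit43.NumTriv
import Groth.Agent.S1664
import Groth.Agent.CurveCohLib.Skyscraper

/-!
# Growth of sections of semiample modules

If `M` is globally generated and `(M^d · Z) > 0` for an integral closed subscheme `Z` of dimension
`d`, the sections of `M^a` modulo those vanishing on `Z` grow like `a^d`.
-/

set_option linter.style.haveILetI false
set_option linter.unusedSectionVars false
set_option backward.isDefEq.respectTransparency false
set_option backward.isDefEq.respectTransparency.types false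

universe u

open CategoryTheory CategoryTheory.Limits AlgebraicGeometry TopologicalSpace Opposite
open scoped Groth.Agent.H23.PicMul
open Groth.Agent.PnCoh.Finite (mapLin)

attribute [local instance] HasDerivedCategory.standard

noncomputable section

namespace Groth.Agent.Posit43

open Groth.Agent HilbPoly

variable (k : Type u) [Field k] {X : Scheme.{u}} [X.Over (Spec (CommRingCat.of k))]

/-- The sections of degree zero as sections over the whole space. -/
def h0Sect (N : X.Modules) : Coh.HH X N 0 ≃+ Γ(N, ⊤) := Sheaf.H.equiv₀ (Coh.toAb N) isTerminalTop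

/-- The germs vanishing at a point. -/
def maxSub (N : X.Modules) (x : X) : Submodule (X.presheaf.stalk x) (N.presheaf.stalk x) :=
  IsLocalRing.maximalIdeal (X.presheaf.stalk x) • ⊤

/-- The sections vanishing at a point. -/
def vanAtPt (N : X.Modules) (x : X) : Submodule k (Coh.HH X N 0) where
  carrier := {t | N.presheaf.germ ⊤ x trivial (h0Sect N t) ∈ maxSub N x}
  add_mem' := by
    intro a b ha hb
    simp only [Set.mem_ofPred_eq, map_add]
    exact Submodule.add_mem _ ha hb
  zero_mem' := by simp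
  smul_mem' := by
    intro c t ht
    show N.presheaf.germ ⊤ x trivial (h0Sect N (c • t)) ∈ maxSub N x
    exact (CurveCohLib.germ_h0Equiv_smul N c t x).symm ▸ (maxSub N x).smul_mem (Curv2.stalkMap k X x c) ht

variable {k}

theorem mem_vanAtPt {N : X.Modules} (hN : PicF.IsInvertible N) (x : X) (t : Coh.HH X N 0) :
    t ∈ vanAtPt k N x ↔ x ∉ CohB1.genLocus N (InvX.ofSect (h0Sect N t)) := by
  obtain ⟨U, hxU, e, he⟩ := InvX.exists_frame hN x
  obtain ⟨g, hg⟩ := he.exists_coord le_rfl
    (AModX.res N (le_top : U ≤ ⊤) (InvX.one (InvX.ofSect (h0Sect N t))))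
  rw [AModX.res_self] at hg
  have h1 : x ∈ CohB1.genLocus N (InvX.ofSect (h0Sect N t)) ↔
      IsUnit (X.presheaf.germ U x hxU g) := by
    rw [← X.mem_basicOpen g x hxU, ← InvX.genLocus_inf _ he hg]
    exact ⟨fun h => ⟨h, hxU⟩, fun h => h.1⟩
  have h2 : N.presheaf.germ ⊤ x trivial (h0Sect N t) =
      X.presheaf.germ U x hxU g • N.presheaf.germ U x hxU e := by
    rw [← QCoh.germ_smul' N hxU, ← hg, InvX.one_ofSect]
    exact (N.presheaf.germ_res_apply (homOfLE le_top) x hxU _).symm
  have hb := he.germ_bijective hxU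
  have hP : ∀ y ∈ maxSub N x,
      ∃ c ∈ IsLocalRing.maximalIdeal (X.presheaf.stalk x), y = c • N.presheaf.germ U x hxU e := by
    intro y hy
    refine Submodule.smul_induction_on hy (fun r hr z _ => ?_) ?_
    · obtain ⟨d, rfl⟩ := hb.2 z
      exact ⟨r * d, Ideal.mul_mem_right d _ hr, (mul_smul _ _ _).symm⟩
    · rintro y z ⟨c, hc, rfl⟩ ⟨c', hc', rfl⟩
      exact ⟨c + c', add_mem hc hc', (add_smul _ _ _).symm⟩
  show N.presheaf.germ ⊤ x trivial (h0Sect N t) ∈ maxSub N x ↔ _
  rw [h1, h2]
  refine ⟨fun h hu => ?_, fun h => Submodule.smul_mem_smul h trivial⟩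
  obtain ⟨c, hc, hce⟩ := hP _ h
  rw [hb.1 hce] at hu
  exact hc hu

theorem vanAtPt_le {N : X.Modules} (hN : PicF.IsInvertible N) {x y : X} (h : x ⤳ y) :
    vanAtPt k N x ≤ vanAtPt k N y := fun t ht =>
  (mem_vanAtPt hN y t).2 fun hy => (mem_vanAtPt hN x t).1 ht (h.mem_open (CohB1.genLocus N _).2 hy)

/-- The number of sections modulo those vanishing at a point. -/
def rankAt (k : Type u) [Field k] [X.Over (Spec (CommRingCat.of k))] (N : X.Modules) (x : X) : ℕ :=
  Module.finrank k (Coh.HH X N 0 ⧸ vanAtPt k N x)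

theorem h0Sect_mapLin {A B : X.Modules} (f : A ⟶ B) (t : Coh.HH X A 0) :
    h0Sect B (mapLin k f 0 t) = f.app ⊤ (h0Sect A t) :=
  (Sheaf.H.equiv₀_naturality isTerminalTop ((QCoh.toAbFunctor X).map f) t).symm

/-- Multiplication by a section on sections. -/
def mulMap (k : Type u) [Field k] [X.Over (Spec (CommRingCat.of k))] {M : X.Modules}
    (s : Coh.structureModule X ⟶ M) (A : X.Modules) :
    Coh.HH X A 0 →ₗ[k] Coh.HH X (CohB1.tensorMod A M) 0 :=
  mapLin k (AmpleVan.mulSec (InvX.one s) A) 0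

theorem h0Sect_mulMap {A M : X.Modules} (s : Coh.structureModule X ⟶ M) (t : Coh.HH X A 0) :
    h0Sect (CohB1.tensorMod A M) (mulMap k s A t) = InvX.tmul (h0Sect A t) (InvX.one s) := by
  refine (h0Sect_mapLin (AmpleVan.mulSec (InvX.one s) A) t).trans ?_
  refine (AmpleVan.mulSec_app _ A ⊤ _).trans ?_
  exact congrArg _ (AModX.res_self _)

theorem genLocus_mapLin {A M : X.Modules} (hA : PicF.IsInvertible A) (hM : PicF.IsInvertible M)
    (s : Coh.structureModule X ⟶ M) (t : Coh.HH X A 0) :
    CohB1.genLocus _ (InvX.ofSect (h0Sect (CohB1.tensorMod A M) (mulMap k s A t))) =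
      CohB1.genLocus A (InvX.ofSect (h0Sect A t)) ⊓ CohB1.genLocus M s := by
  rw [← InvX.genLocus_mulHom hA hM, InvX.mulHom, InvX.one_ofSect, h0Sect_mulMap]

variable [IsProper (X ↘ Spec (CommRingCat.of k))]

theorem rankAt_le_h0 {N : X.Modules} (hN : PicF.IsInvertible N) (x : X) :
    rankAt k N x ≤ Module.finrank k (Coh.HH X N 0) := by
  haveI := CurveCohLib.isNoetherian_of_proper (k := k) (X := X)
  haveI := S0002.result k X N (AmpleVan.isCoh_invertible hN) 0
  exact Submodule.finrank_quotient_le _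

theorem rankAt_add_le {A M : X.Modules} (hA : PicF.IsInvertible A) (hM : PicF.IsInvertible M)
    (s : Coh.structureModule X ⟶ M) {x y : X} (hx : x ∈ CohB1.genLocus M s) (hxy : x ⤳ y)
    (hy : y ∉ CohB1.genLocus M s) :
    rankAt k A x + rankAt k (CohB1.tensorMod A M) y ≤ rankAt k (CohB1.tensorMod A M) x := by
  haveI := CurveCohLib.isNoetherian_of_proper (k := k) (X := X)
  have hB := H23.PicMul.isInvertible_tensor hA hM
  haveI := S0002.result k X _ (AmpleVan.isCoh_invertible hA) 0
  haveI := S0002.result k X _ (AmpleVan.isCoh_invertible hB) 0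
  let T := mulMap k s A
  let K := vanAtPt k (CohB1.tensorMod A M) x
  let K' := vanAtPt k (CohB1.tensorMod A M) y
  let g := K.mkQ.comp T
  have hker : LinearMap.ker g = vanAtPt k A x := by
    refine Submodule.ext fun t => ?_
    rw [LinearMap.mem_ker, LinearMap.comp_apply, Submodule.mkQ_apply, Submodule.Quotient.mk_eq_zero,
      mem_vanAtPt hB, mem_vanAtPt hA, genLocus_mapLin hA hM s t]
    exact ⟨fun h h' => h ⟨h', hx⟩, fun h h' => h h'.1⟩
  have hrange : LinearMap.range g ≤ K'.map K.mkQ := by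
    rintro _ ⟨t, rfl⟩
    refine ⟨T t, (mem_vanAtPt hB y _).2 ?_, rfl⟩
    rw [genLocus_mapLin hA hM s t]
    exact fun h => hy h.2
  have h1 : rankAt k A x ≤ Module.finrank k ↥(K'.map K.mkQ) := by
    rw [rankAt, ← hker, g.quotKerEquivRange.finrank_eq]
    exact Submodule.finrank_mono hrange
  have h2 := (K'.map K.mkQ).finrank_quotient_add_finrank
  rw [(Submodule.quotientQuotientEquivQuotient K K' (vanAtPt_le hB hxy)).finrank_eq] at h2
  change Module.finrank k (Coh.HH X (CohB1.tensorMod A M) 0 ⧸ K') + _ = rankAt k (CohB1.tensorMod A M) x at h2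
  have h3 : rankAt k (CohB1.tensorMod A M) y = Module.finrank k (Coh.HH X (CohB1.tensorMod A M) 0 ⧸ K') := rfl
  omega

theorem rankAt_mono {A M : X.Modules} (hA : PicF.IsInvertible A) (hM : PicF.IsInvertible M)
    (s : Coh.structureModule X ⟶ M) {x : X} (hx : x ∈ CohB1.genLocus M s) :
    rankAt k A x ≤ rankAt k (CohB1.tensorMod A M) x := by
  haveI := CurveCohLib.isNoetherian_of_proper (k := k) (X := X)
  have hB := H23.PicMul.isInvertible_tensor hA hM
  haveI := S0002.result k X _ (AmpleVan.isCoh_invertible hB) 0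
  let T := mulMap k s A
  let g := (vanAtPt k (CohB1.tensorMod A M) x).mkQ.comp T
  have hker : LinearMap.ker g = vanAtPt k A x := by
    refine Submodule.ext fun t => ?_
    rw [LinearMap.mem_ker, LinearMap.comp_apply, Submodule.mkQ_apply, Submodule.Quotient.mk_eq_zero,
      mem_vanAtPt hB, mem_vanAtPt hA, genLocus_mapLin hA hM s t]
    exact ⟨fun h h' => h ⟨h', hx⟩, fun h h' => h h'.1⟩
  rw [rankAt, ← hker, g.quotKerEquivRange.finrank_eq]
  exact Submodule.finrank_le _

theorem rankAt_pos {M : X.Modules} (hM : PicF.IsInvertible M) {x : X}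
    (hs : ∃ s : Coh.structureModule X ⟶ M, x ∈ CohB1.genLocus M s) :
    ∀ a, 0 < rankAt k (CohB1.tensorPow M a) x
  | 0 => by
    haveI := CurveCohLib.isNoetherian_of_proper (k := k) (X := X)
    haveI := S0002.result k X _ (AmpleVan.isCoh_invertible (InvX.isInvertible_tensorPow hM 0)) 0
    refine Module.finrank_pos_iff.2 (Submodule.Quotient.nontrivial_iff.2 fun h => ?_)
    have hmem : (h0Sect (CohB1.tensorPow M 0)).symm (InvX.one (InvX.powHom (𝟙 (Coh.structureModule X)) 0)) ∈
        vanAtPt k (CohB1.tensorPow M 0) x := h ▸ Submodule.mem_top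
    rw [mem_vanAtPt (InvX.isInvertible_tensorPow hM 0), AddEquiv.apply_symm_apply] at hmem
    refine hmem (InvX.le_genLocus _ ?_ (Opens.mem_top x))
    rw [InvX.one_ofSect, AModX.res_self]
    exact InvX.isFrame_one ⊤
  | a + 1 => by
    obtain ⟨s, hx⟩ := hs
    exact (rankAt_pos hM ⟨s, hx⟩ a).trans_le
      (rankAt_mono (InvX.isInvertible_tensorPow hM a) hM s hx)

theorem succ_pow_le (a : ℕ) : ∀ d : ℕ, (a + 1) ^ (d + 1) ≤ a ^ (d + 1) + (d + 1) * (a + 1) ^ d
  | 0 => by simp
  | d + 1 => by
    have h := Nat.mul_le_mul_left (a + 1) (succ_pow_le a d)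
    have h' : a ^ (d + 1) ≤ (a + 1) ^ (d + 1) := Nat.pow_le_pow_left a.le_succ _
    calc (a + 1) ^ (d + 1 + 1) = (a + 1) * (a + 1) ^ (d + 1) := pow_succ' _ _
      _ ≤ (a + 1) * (a ^ (d + 1) + (d + 1) * (a + 1) ^ d) := h
      _ = a ^ (d + 1 + 1) + (a ^ (d + 1) + (d + 1) * (a + 1) ^ (d + 1)) := by ring
      _ ≤ a ^ (d + 1 + 1) + (d + 1 + 1) * (a + 1) ^ (d + 1) := by nlinarith

/-- A divisor of `M` on `Z` contains a subscheme with positive degree. -/
theorem exists_component [IsAlgClosed k] {H L M : X.Modules} (hH : CohB1.IsAmple H) (hL : PicF.IsInvertible L)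
    (hnef : NefX k L) {μ₀ : ℕ} (hμ : 0 < μ₀) (hM : M = CohB1.tensorPow L μ₀) {d : ℕ} {Z : Scheme.{u}}
    (i : Z ⟶ X) [IsClosedImmersion i] [IsIntegral Z] (hZ : topologicalKrullDim Z = (d + 1 : ℕ))
    (hpos : 0 < iterD (List.replicate (d + 1) L) (Curv2.euler k X) ((Coh.push i).obj (Coh.structureModule Z)))
    (s : Coh.structureModule X ⟶ M) (hs : i (genericPoint Z) ∈ CohB1.genLocus M s) :
    ∃ (W : Scheme.{u}) (j : W ⟶ X) (_ : IsClosedImmersion j) (_ : IsIntegral W),
      topologicalKrullDim W = d ∧ i (genericPoint Z) ⤳ j (genericPoint W) ∧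
      j (genericPoint W) ∉ CohB1.genLocus M s ∧
      0 < iterD (List.replicate d L) (Curv2.euler k X) ((Coh.push j).obj (Coh.structureModule W)) := by
  haveI := CurveCohLib.isNoetherian_of_proper (k := k) (X := X)
  subst hM
  have hF := QCoh.isCoh_push_structure (X := X) i
  have hN := InvX.isInvertible_tensorPow hL μ₀
  haveI : IsLocallyNoetherian Z := LocallyOfFiniteType.isLocallyNoetherian i
  have hclos : topologicalKrullDim ↥(closure ({i (genericPoint Z)} : Set X)) ≤ ((d + 1 : ℕ) : WithBot ℕ∞) :=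
    ((dim_eq_closure i).symm.trans hZ).le
  haveI := mono_mulHom_piece i (𝟙 (Coh.structureModule Z)) s hs
  have hP : Coh.IsCoh (CohB1.tensorMod ((Coh.push i).obj (Coh.structureModule Z)) (CohB1.tensorPow L μ₀)) :=
    AmpleVan.isCoh_tensor hF (AmpleVan.isCoh_invertible hN)
  have hC := QCoh.isCoh_cokernel hF.1 hP (mulHom s _)
  have hCd := le_of_lt_succ (dimLT_cokernel_piece i (𝟙 _) hN s hs QCoh.isCoh_structureModule' hclos)
  have hsub : CohB1.support (cokernel (mulHom s ((Coh.push i).obj (Coh.structureModule Z)))) ⊆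
      closure {i (genericPoint Z)} :=
    ((QCoh.support_of_epi hP.1 hC.1 (cokernel.π _)).trans (support_tensor_subset _ _)).trans
      ((QCoh.support_push_subset i QCoh.isQCoh_structureModule).trans (QCoh.range_eq_closure i).le)
  have hoff : ∀ z ∈ CohB1.support (cokernel (mulHom s ((Coh.push i).obj (Coh.structureModule Z)))),
      z ∉ CohB1.genLocus _ s := fun z hz hzs => by
    obtain ⟨U, hzU, hU⟩ := InvX.mem_genLocus hzs
    haveI := (InvX.isIso_restrict_iff s U).2 hU
    haveI := isIso_restrict_mulHom s ((Coh.push i).obj (Coh.structureModule Z)) (U := U)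
    exact notMem_support_of_isZero_restrict (isZero_restrict_cokernel U _) hzU hz
  have hl := inv_replicate hL d
  have hFd : DimLT ((Coh.push i).obj (Coh.structureModule Z)) ((List.replicate d L).length + 2) := by
    rw [DimLT, push_structure_dim i, hZ, List.length_replicate]
    exact_mod_cast Nat.lt_succ_self (d + 1)
  have h1 : 0 < iterD (List.replicate d L) (Curv2.euler k X)
      (cokernel (mulHom s ((Coh.push i).obj (Coh.structureModule Z)))) := by
    rw [← iterD_cons_mulHom (additive_euler k) hl hN s hF,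
      iterD_cons_pow (additive_euler k) hl hL hF hFd μ₀]
    exact mul_pos (by exact_mod_cast hμ) hpos
  by_contra hcon
  have hA := additive_iterD (additive_euler (X := X) k) hl
  refine h1.ne' (devissage_pieces (fun G => iterD (List.replicate d L) (Curv2.euler k X) G = 0)
    (fun e h => by rwa [hA.iso _ _ ⟨e⟩] at h) (fun hz => hA.zero_of_isZero hz)
    (fun S hS h₁ h₂ h₃ a b => by rw [hA.add S hS h₁ h₂ h₃, a, b, add_zero])
    (fun W j _ _ I ι _ hI hI0 hWsub => ?_) hC subset_rfl)
  have hdξ : topologicalKrullDim ↥(closure ({j (genericPoint W)} : Set X)) ≤ (d : WithBot ℕ∞) :=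
    (H23.TopDim.dim_le_dim_of_subset hWsub).trans hCd
  rcases hdξ.lt_or_eq with hlt | heq
  · refine iterD_eq_zero d (additive_euler k) _ List.length_replicate hl _ (QCoh.isCoh_push j hI) ?_
    rw [DimLT, QCoh.support_push_ideal j ι hI.1 hI0]
    exact hlt
  · obtain ⟨S, hS, e₁, e₂, h₁, h₂, h₃, h3⟩ := exists_piece_quot j ι hI hI0 hdξ
    have hadd := hA.add S hS h₁ h₂ h₃
    rw [e₁, e₂, iterD_eq_zero d (additive_euler k) _ List.length_replicate hl _ h₃ h3, add_zero] at hadd
    rw [← hadd]
    have hW : topologicalKrullDim W = d := (dim_eq_closure j).trans heq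
    have hmem : j (genericPoint W) ∈ _ := hWsub (subset_closure (Set.mem_singleton _))
    have h0 : 0 ≤ iterD (List.replicate d L) (Curv2.euler k X) ((Coh.push j).obj (Coh.structureModule W)) :=
      nonnegIn k d X H L hH hL hnef _ (fun N hN => Or.inl (List.eq_of_mem_replicate hN))
        List.length_replicate _ (QCoh.isCoh_push_structure j) ((push_structure_dim j).trans hW).le
    by_contra hne
    exact hcon ⟨W, j, inferInstance, inferInstance, hW,
      specializes_iff_mem_closure.2 (hsub hmem), hoff _ hmem, lt_of_le_of_ne h0 (Ne.symm hne)⟩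

/-- The growth along a subscheme with positive top degree. -/
theorem exists_rankAt_growth [IsAlgClosed k] {H L M : X.Modules} (hH : CohB1.IsAmple H)
    (hL : PicF.IsInvertible L) (hnef : NefX k L) {μ₀ : ℕ} (hμ : 0 < μ₀) (hM : M = CohB1.tensorPow L μ₀)
    (hgg : Curv2.IsGloballyGenerated M) :
    ∀ (d : ℕ) (Z : Scheme.{u}) (i : Z ⟶ X) [IsClosedImmersion i] [IsIntegral Z],
      topologicalKrullDim Z = d →
      0 < iterD (List.replicate d L) (Curv2.euler k X) ((Coh.push i).obj (Coh.structureModule Z)) →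
      ∃ K : ℕ, 0 < K ∧ ∀ a, a ^ d ≤ K * rankAt k (CohB1.tensorPow M a) (i (genericPoint Z)) := by
  have hMi : PicF.IsInvertible M := hM ▸ InvX.isInvertible_tensorPow hL μ₀
  intro d
  induction d with
  | zero =>
    intro Z i _ _ _ _
    refine ⟨1, one_pos, fun a => ?_⟩
    rw [pow_zero, one_mul]
    exact rankAt_pos hMi (S1664.GenSec.exists_mem_genLocus hMi hgg _) a
  | succ d ih =>
    intro Z i _ _ hZ hpos
    obtain ⟨s, hs⟩ := S1664.GenSec.exists_mem_genLocus hMi hgg (i (genericPoint Z))
    obtain ⟨W, j, hj, hW, hWd, hsp, hns, hWpos⟩ := exists_component hH hL hnef hμ hM i hZ hpos s hs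
    haveI := hj; haveI := hW
    obtain ⟨K, hK, hKa⟩ := ih W j hWd hWpos
    refine ⟨(d + 1) * K, Nat.mul_pos d.succ_pos hK, fun a => ?_⟩
    induction a with
    | zero => rw [zero_pow d.succ_ne_zero]; exact Nat.zero_le _
    | succ a iha =>
      have h1 : rankAt k (CohB1.tensorPow M a) (i (genericPoint Z)) +
          rankAt k (CohB1.tensorPow M (a + 1)) (j (genericPoint W)) ≤
          rankAt k (CohB1.tensorPow M (a + 1)) (i (genericPoint Z)) :=
        rankAt_add_le (InvX.isInvertible_tensorPow hMi a) hMi s hs hsp hns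
      have h2 := hKa (a + 1)
      calc (a + 1) ^ (d + 1) ≤ a ^ (d + 1) + (d + 1) * (a + 1) ^ d := succ_pow_le a d
        _ ≤ (d + 1) * K * rankAt k (CohB1.tensorPow M a) (i (genericPoint Z)) +
            (d + 1) * (K * rankAt k (CohB1.tensorPow M (a + 1)) (j (genericPoint W))) :=
          Nat.add_le_add iha (Nat.mul_le_mul_left _ h2)
        _ = (d + 1) * K * (rankAt k (CohB1.tensorPow M a) (i (genericPoint Z)) +
            rankAt k (CohB1.tensorPow M (a + 1)) (j (genericPoint W))) := by ring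
        _ ≤ _ := Nat.mul_le_mul_left _ h1

/-- A semiample module is nef. -/
theorem nefX_of_semiample [IsAlgClosed k] {H L : X.Modules} (hH : CohB1.IsAmple H) (hL : PicF.IsInvertible L)
    {μ₀ : ℕ} (hμ : 0 < μ₀) (hgg : Curv2.IsGloballyGenerated (CohB1.tensorPow L μ₀)) : NefX k L := by
  intro Y i _ _ hY
  haveI := CurveCohLib.isNoetherian_of_proper (k := k) (X := X)
  have hN := InvX.isInvertible_tensorPow hL μ₀
  obtain ⟨s, hs⟩ := S1664.GenSec.exists_mem_genLocus hN hgg (i (genericPoint Y))
  have hF := QCoh.isCoh_push_structure (X := X) i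
  haveI : IsLocallyNoetherian Y := LocallyOfFiniteType.isLocallyNoetherian i
  have hclos : topologicalKrullDim ↥(closure ({i (genericPoint Y)} : Set X)) ≤ ((1 : ℕ) : WithBot ℕ∞) :=
    ((dim_eq_closure i).symm.trans hY).le
  haveI := mono_mulHom_piece i (𝟙 (Coh.structureModule Y)) s hs
  have hlt := dimLT_cokernel_piece i (𝟙 _) hN s hs QCoh.isCoh_structureModule' hclos
  have hC := QCoh.isCoh_cokernel hF.1 (AmpleVan.isCoh_tensor hF (AmpleVan.isCoh_invertible hN)) (mulHom s _)
  have h0 := (mult_nonneg_and_pos k hH 0 _ hC (le_of_lt_succ hlt)).1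
  have hFd : DimLT ((Coh.push i).obj (Coh.structureModule Y)) (([] : List X.Modules).length + 2) := by
    rw [DimLT, push_structure_dim i, hY]
    exact_mod_cast Nat.lt_succ_self 1
  change 0 ≤ iterD [] (Curv2.euler k X) _ at h0
  rw [← iterD_cons_mulHom (additive_euler k) (fun _ h => absurd h List.not_mem_nil) hN s hF,
    iterD_cons_pow (additive_euler k) (fun _ h => absurd h List.not_mem_nil) hL hF hFd μ₀] at h0
  exact nonneg_of_mul_nonneg_right h0 (by exact_mod_cast hμ)

variable (k) in
/-- Sections of a semiample module grow at least like the dimension of a subscheme of positive degree. -/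
theorem growth_of_semiample [IsAlgClosed k] {H L : X.Modules} (hH : CohB1.IsAmple H) (hL : PicF.IsInvertible L)
    {μ₀ : ℕ} (hμ : 0 < μ₀) (hgg : Curv2.IsGloballyGenerated (CohB1.tensorPow L μ₀)) {m : ℕ}
    {Z : Scheme.{u}} (i : Z ⟶ X) [IsClosedImmersion i] [IsIntegral Z] (hZ : topologicalKrullDim Z = m)
    (hne : iterD (List.replicate m L) (Curv2.euler k X) ((Coh.push i).obj (Coh.structureModule Z)) ≠ 0) :
    ∃ ν a : ℕ, 0 < ν ∧ 0 < a ∧ ∀ μ : ℕ, 1 ≤ μ →
      μ ^ m ≤ a * Module.finrank k (Coh.HH X (CohB1.tensorPow L (ν * μ)) 0) := by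
  haveI := CurveCohLib.isNoetherian_of_proper (k := k) (X := X)
  have hnef : NefX k L := nefX_of_semiample hH hL hμ hgg
  have h0 := nonnegIn k m X H L hH hL hnef _ (fun N hN => Or.inl (List.eq_of_mem_replicate hN))
    List.length_replicate _ (QCoh.isCoh_push_structure i) ((push_structure_dim i).trans hZ).le
  obtain ⟨K, hK, hKa⟩ := exists_rankAt_growth hH hL hnef hμ rfl hgg m Z i hZ (lt_of_le_of_ne h0 hne.symm)
  refine ⟨μ₀, K, hμ, hK, fun μ _ => (hKa μ).trans (Nat.mul_le_mul_left K ?_)⟩
  rw [finrank_HH_congr k (N := CohB1.tensorPow (CohB1.tensorPow L μ₀) μ) (by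
    rw [H23.PicMul.cl_tensorPow, H23.PicMul.cl_tensorPow, H23.PicMul.cl_tensorPow, pow_mul]) 0]
  exact rankAt_le_h0 (InvX.isInvertible_tensorPow (InvX.isInvertible_tensorPow hL μ₀) μ) _

end Groth.Agent.Posit43
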